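import Mathlib

set_option autoImplicit false
open MulAction
universe u

namespace Cfsg.Agent.Lib.Helper70

/-- The number of elements of order `d` is a multiple of `φ d`. -/
theorem totient_dvd_card_orderOf {G : Type*} [Group G] [Finite G] (d : ℕ) :
    Nat.totient d ∣ Nat.card {x : G // orderOf x = d} := by
  classical
  have : Fintype (Subgroup G) := Fintype.ofFinite _
  let f : {x : G // orderOf x = d} → Subgroup G := fun x => Subgroup.zpowers x.1
  rw [Nat.card_congr (Equiv.sigmaFiberEquiv f).symm, Nat.card_sigma]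
  apply Finset.dvd_sum
  intro C _
  by_cases hC : Nonempty {x : {x : G // orderOf x = d} // f x = C}
  · obtain ⟨⟨⟨x, hx⟩, hxC⟩⟩ := hC
    have hxC' : Subgroup.zpowers x = C := hxC
    have hcyc : IsCyclic C := by rw [← hxC']; infer_instance
    have hcard : Nat.card C = d := by rw [← hxC', Nat.card_zpowers, hx]
    have e : {x : {x : G // orderOf x = d} // f x = C} ≃ {c : C // orderOf c = d} :=
      { toFun := fun y => ⟨⟨y.1.1, by
          have h : Subgroup.zpowers y.1.1 = C := y.2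
          exact h.le (Subgroup.mem_zpowers (y.1.1 : G))⟩, by
          rw [Subgroup.orderOf_mk]; exact y.1.2⟩
        invFun := fun c => ⟨⟨c.1.1, by rw [Subgroup.orderOf_coe]; exact c.2⟩, by
          change Subgroup.zpowers (c.1 : G) = C
          apply Subgroup.eq_of_le_of_card_ge
          · rw [Subgroup.zpowers_le]; exact c.1.2
          · rw [Nat.card_zpowers, Subgroup.orderOf_coe, c.2, hcard]⟩
        left_inv := fun y => rfl
        right_inv := fun c => rfl }
    rw [Nat.card_congr e]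
    have : Fintype C := Fintype.ofFinite _
    have h1 := IsCyclic.card_orderOf_eq_totient (α := C) (d := d)
      (by rw [← Nat.card_eq_fintype_card, hcard])
    rw [Nat.card_eq_fintype_card, Fintype.card_subtype, h1]
  · rw [not_nonempty_iff] at hC
    simp

theorem dvd_sum_of_orbit {G Y : Type*} [Group G] [MulAction G Y] [Fintype Y] (f : Y → ℕ)
    (hf : ∀ (g : G) (y : Y), f (g • y) = f y) (k : ℕ)
    (h : ∀ y : Y, k ∣ Nat.card (orbit G y) * f y) : k ∣ ∑ y, f y := by
  classical
  have : Fintype (Quotient (orbitRel G Y)) := Fintype.ofFinite _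
  have : ∀ ω : Quotient (orbitRel G Y), Fintype (orbit G ω.out) := fun ω => Fintype.ofFinite _
  rw [← Equiv.sum_comp (selfEquivSigmaOrbits G Y).symm, Fintype.sum_sigma]
  apply Finset.dvd_sum
  intro ω _
  have h1 : ∀ y' : orbit G ω.out, f ((selfEquivSigmaOrbits G Y).symm ⟨ω, y'⟩) = f ω.out := by
    rintro ⟨_, ⟨g, rfl⟩⟩
    exact hf g ω.out
  rw [Finset.sum_congr rfl (fun y' _ => h1 y'), Finset.sum_const, Finset.card_univ, smul_eq_mul,
    ← Nat.card_eq_fintype_card]
  exact h ω.out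

/-- A conjugation invariant predicate as a sub-action of the conjugation action. -/
def conjSub {G : Type*} [Group G] (Q : G → Prop) (hQ : ∀ g y : G, Q y → Q (g * y * g⁻¹)) :
    SubMulAction (ConjAct G) G where
  carrier := {y | Q y}
  smul_mem' g y hy := hQ (ConjAct.ofConjAct g) y hy

theorem dvd_card_pairs {G : Type*} [Group G] [Finite G] (Q : G → Prop)
    (hQ : ∀ g y : G, Q y → Q (g * y * g⁻¹)) (k : ℕ) (hk : k ∣ Nat.card G)
    (H : ∀ y : G, Q y → Nat.gcd k (Nat.card (Subgroup.centralizer ({y} : Set G))) ∣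
      Nat.card {z : G // Commute y z ∧ z ^ k = 1}) :
    k ∣ Nat.card {yz : G × G // Q yz.1 ∧ Commute yz.1 yz.2 ∧ yz.2 ^ k = 1} := by
  classical
  let Y := conjSub Q hQ
  have : Fintype Y := Fintype.ofFinite _
  let e : {yz : G × G // Q yz.1 ∧ Commute yz.1 yz.2 ∧ yz.2 ^ k = 1} ≃
      Σ y : Y, {z : G // Commute (y : G) z ∧ z ^ k = 1} :=
    { toFun := fun w => ⟨⟨w.1.1, w.2.1⟩, ⟨w.1.2, w.2.2⟩⟩
      invFun := fun w => ⟨(w.1.1, w.2.1), ⟨w.1.2, w.2.2⟩⟩
      left_inv := fun w => rfl
      right_inv := fun w => rfl }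
  rw [Nat.card_congr e, Nat.card_sigma]
  apply dvd_sum_of_orbit (G := ConjAct G)
  · intro g y
    apply Nat.card_congr
    let g' : G := ConjAct.ofConjAct g
    have hgy : ((g • y : Y) : G) = g' * y * g'⁻¹ := rfl
    exact
      { toFun := fun z => ⟨g'⁻¹ * z.1 * g', by
          obtain ⟨z, hz1, hz2⟩ := z
          rw [hgy] at hz1
          refine ⟨?_, ?_⟩
          · have := hz1.eq
            change (y : G) * (g'⁻¹ * z * g') = g'⁻¹ * z * g' * y
            have h2 : g'⁻¹ * (g' * y * g'⁻¹ * z) * g' = g'⁻¹ * (z * (g' * y * g'⁻¹)) * g' := by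
              rw [this]
            simpa [mul_assoc] using h2
          · have : (g'⁻¹ * z * g') ^ k = g'⁻¹ * z ^ k * g' := by
              have := conj_pow (a := g'⁻¹) (b := z) (i := k)
              simpa using this
            rw [this, hz2]; simp⟩
        invFun := fun z => ⟨g' * z.1 * g'⁻¹, by
          obtain ⟨z, hz1, hz2⟩ := z
          rw [hgy]
          refine ⟨?_, ?_⟩
          · have := hz1.eq
            change g' * y * g'⁻¹ * (g' * z * g'⁻¹) = g' * z * g'⁻¹ * (g' * y * g'⁻¹)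
            have h2 : g' * ((y : G) * z) * g'⁻¹ = g' * (z * y) * g'⁻¹ := by rw [this]
            simpa [mul_assoc] using h2
          · rw [conj_pow, hz2]; simp⟩
        left_inv := fun z => by ext; simp [mul_assoc]
        right_inv := fun z => by ext; simp [mul_assoc] }
  · intro y
    have h1 : Nat.card (orbit (ConjAct G) y) = (Subgroup.centralizer ({(y : G)} : Set G)).index := by
      rw [Nat.card_coe_set_eq, ← index_stabilizer, SubMulAction.stabilizer_of_subMul,
        ConjAct.stabilizer_eq_centralizer]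
      rfl
    rw [h1]
    have h2 := H y y.2
    have h3 : k ∣ (Subgroup.centralizer ({(y : G)} : Set G)).index *
        Nat.gcd k (Nat.card (Subgroup.centralizer ({(y : G)} : Set G))) := by
      rw [← Nat.gcd_mul_left]
      apply Nat.dvd_gcd (dvd_mul_left _ _)
      rw [mul_comm, Subgroup.card_mul_index]
      exact hk
    exact h3.trans (Nat.mul_dvd_mul_left _ h2)

theorem card_decomp {G : Type*} [Group G] {P k : ℕ} (hPk : Nat.Coprime P k) (R Q : G → Prop)
    (hQ : ∀ y, Q y → y ^ P = 1)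
    (hRQ : ∀ y z : G, Commute y z → y ^ P = 1 → z ^ k = 1 → (R (y * z) ↔ Q y)) :
    Nat.card {x : G // x ^ (P * k) = 1 ∧ R x} =
      Nat.card {yz : G × G // Q yz.1 ∧ Commute yz.1 yz.2 ∧ yz.2 ^ k = 1} := by
  set s : ℤ := Nat.gcdA P k with hs
  set t : ℤ := Nat.gcdB P k with ht
  have hb : (P : ℤ) * s + k * t = 1 := by
    have := Nat.gcd_eq_gcd_ab P k
    rw [hPk] at this
    simpa using this.symm
  have key1 : ∀ x : G, x ^ (P * k) = 1 → (x ^ ((k : ℤ) * t)) ^ P = 1 := by
    intro x hx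
    rw [← zpow_natCast, ← zpow_mul, show (k : ℤ) * t * P = ((P * k : ℕ) : ℤ) * t by push_cast; ring,
      zpow_mul, zpow_natCast, hx, one_zpow]
  have key2 : ∀ x : G, x ^ (P * k) = 1 → (x ^ ((P : ℤ) * s)) ^ k = 1 := by
    intro x hx
    rw [← zpow_natCast, ← zpow_mul, show (P : ℤ) * s * k = ((P * k : ℕ) : ℤ) * s by push_cast; ring,
      zpow_mul, zpow_natCast, hx, one_zpow]
  have key3 : ∀ x : G, x ^ ((k : ℤ) * t) * x ^ ((P : ℤ) * s) = x := by
    intro x
    rw [← zpow_add, add_comm, hb, zpow_one]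
  have key4 : ∀ y z : G, Commute y z → y ^ P = 1 → z ^ k = 1 → (y * z) ^ ((k : ℤ) * t) = y := by
    intro y z hc hy hz
    rw [hc.mul_zpow, zpow_mul z, zpow_natCast, hz, one_zpow, mul_one,
      show (k : ℤ) * t = 1 - P * s by linarith, zpow_sub, zpow_one, zpow_mul, zpow_natCast, hy,
      one_zpow, inv_one, mul_one]
  have key5 : ∀ y z : G, Commute y z → y ^ P = 1 → z ^ k = 1 → (y * z) ^ ((P : ℤ) * s) = z := by
    intro y z hc hy hz
    rw [hc.mul_zpow, zpow_mul y, zpow_natCast, hy, one_zpow, one_mul,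
      show (P : ℤ) * s = 1 - k * t by linarith, zpow_sub, zpow_one, zpow_mul, zpow_natCast, hz,
      one_zpow, inv_one, mul_one]
  apply Nat.card_congr
  exact
    { toFun := fun x => ⟨(x.1 ^ ((k : ℤ) * t), x.1 ^ ((P : ℤ) * s)), by
        have hc : Commute (x.1 ^ ((k : ℤ) * t)) (x.1 ^ ((P : ℤ) * s)) :=
          (Commute.refl x.1).zpow_zpow _ _
        refine ⟨?_, hc, key2 x.1 x.2.1⟩
        rw [← hRQ _ _ hc (key1 x.1 x.2.1) (key2 x.1 x.2.1), key3]
        exact x.2.2⟩
      invFun := fun w => ⟨w.1.1 * w.1.2, by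
        obtain ⟨⟨y, z⟩, h1, h2, h3⟩ := w
        refine ⟨?_, (hRQ y z h2 (hQ y h1) h3).mpr h1⟩
        change (y * z) ^ (P * k) = 1
        rw [h2.mul_pow, pow_mul, hQ y h1, one_pow, one_mul, mul_comm, pow_mul, h3, one_pow]⟩
      left_inv := fun x => Subtype.ext (key3 x.1)
      right_inv := fun w => by
        obtain ⟨⟨y, z⟩, h1, h2, h3⟩ := w
        exact Subtype.ext (Prod.ext (key4 y z h2 (hQ y h1) h3) (key5 y z h2 (hQ y h1) h3)) }

theorem pow_eq_one_iff_gcd_card {H : Type*} [Group H] (x : H) (k : ℕ) :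
    x ^ (Nat.gcd k (Nat.card H)) = 1 ↔ x ^ k = 1 := by
  rw [← orderOf_dvd_iff_pow_eq_one, ← orderOf_dvd_iff_pow_eq_one, Nat.dvd_gcd_iff]
  exact ⟨fun h => h.1, fun h => ⟨h, orderOf_dvd_natCard x⟩⟩

theorem eq_one_of_pow_coprime {H : Type*} [Monoid H] {x : H} {a b : ℕ} (hab : Nat.Coprime a b)
    (ha : x ^ a = 1) (hb : x ^ b = 1) : x = 1 := by
  rw [← orderOf_eq_one_iff]
  exact Nat.eq_one_of_dvd_coprimes hab (orderOf_dvd_of_pow_eq_one ha) (orderOf_dvd_of_pow_eq_one hb)

/-- Solutions of `z ^ k = 1` modulo a central subgroup of order prime to `k`. -/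
theorem card_pow_eq_one_quotient {C : Type*} [Group C] (Z : Subgroup C) [Z.Normal]
    (hZ : Z ≤ Subgroup.center C) (k : ℕ) (hk : (Nat.card Z).Coprime k) :
    Nat.card {z : C // z ^ k = 1} = Nat.card {w : C ⧸ Z // w ^ k = 1} := by
  let φ : {z : C // z ^ k = 1} → {w : C ⧸ Z // w ^ k = 1} := fun z =>
    ⟨(z.1 : C ⧸ Z), by rw [← QuotientGroup.mk_pow, z.2]; rfl⟩
  apply Nat.card_eq_of_bijective φ
  constructor
  · rintro ⟨z₁, h₁⟩ ⟨z₂, h₂⟩ h
    have h' : (z₁ : C ⧸ Z) = (z₂ : C ⧸ Z) := congrArg Subtype.val h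
    rw [QuotientGroup.eq] at h'
    have hc : Commute z₁ (z₁⁻¹ * z₂) := ((Subgroup.mem_center_iff.mp (hZ h')) z₁)
    have h3 : (z₁⁻¹ * z₂) ^ k = 1 := by
      have : z₂ ^ k = z₁ ^ k * (z₁⁻¹ * z₂) ^ k := by
        rw [← hc.mul_pow, mul_inv_cancel_left]
      rw [h₁, h₂, one_mul] at this
      exact this.symm
    have h4 : (z₁⁻¹ * z₂) ^ (Nat.card Z) = 1 := by
      have : (⟨z₁⁻¹ * z₂, h'⟩ : Z) ^ Nat.card Z = 1 := pow_card_eq_one'
      exact congrArg Subtype.val this
    have h5 := eq_one_of_pow_coprime hk h4 h3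
    apply Subtype.ext
    exact (inv_mul_eq_one.mp h5)
  · rintro ⟨w, hw⟩
    obtain ⟨z, rfl⟩ := QuotientGroup.mk_surjective w
    have hz : z ^ k ∈ Z := by
      rw [← QuotientGroup.eq_one_iff, QuotientGroup.mk_pow]; exact hw
    obtain ⟨v, hv⟩ := (powCoprime hk).surjective ⟨(z ^ k)⁻¹, Z.inv_mem hz⟩
    have hv' : (v : C) ^ k = (z ^ k)⁻¹ := congrArg Subtype.val hv
    have hc : Commute z (v : C) := ((Subgroup.mem_center_iff.mp (hZ v.2)) z)
    refine ⟨⟨z * v, by rw [hc.mul_pow, hv', mul_inv_cancel]⟩, ?_⟩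
    apply Subtype.ext
    change ((z * v : C) : C ⧸ Z) = (z : C ⧸ Z)
    rw [QuotientGroup.mk_mul, (QuotientGroup.eq_one_iff (v : C)).mpr v.2, mul_one]

theorem normal_of_le_center {C : Type*} [Group C] (Z : Subgroup C) (hZ : Z ≤ Subgroup.center C) :
    Z.Normal := by
  constructor
  intro n hn g
  have := (Subgroup.mem_center_iff.mp (hZ hn)) g
  rw [this, mul_inv_cancel_right]
  exact hn

theorem gcd_dvd_card_commute {G : Type u} [Group G] [Finite G]
    (IH : ∀ (H : Type u) [Group H] [Finite H], Nat.card H < Nat.card G →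
      ∀ n, n ∣ Nat.card H → n ∣ Nat.card {x : H // x ^ n = 1})
    (y : G) (hy : y ≠ 1) (k : ℕ) (hk : (orderOf y).Coprime k) :
    Nat.gcd k (Nat.card (Subgroup.centralizer ({y} : Set G))) ∣
      Nat.card {z : G // Commute y z ∧ z ^ k = 1} := by
  set C := Subgroup.centralizer ({y} : Set G) with hC
  have hyC : y ∈ C := Subgroup.mem_centralizer_singleton_iff.mpr rfl
  let y' : C := ⟨y, hyC⟩
  let Z : Subgroup C := Subgroup.zpowers y'
  have hZ : Z ≤ Subgroup.center C := by
    rw [Subgroup.zpowers_le, Subgroup.mem_center_iff]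
    intro c
    apply Subtype.ext
    exact Subgroup.mem_centralizer_singleton_iff.mp c.2
  have hZn : Z.Normal := normal_of_le_center Z hZ
  have hZcard : Nat.card Z = orderOf y := by
    rw [Nat.card_zpowers, Subgroup.orderOf_mk]
  have e1 : {z : G // Commute y z ∧ z ^ k = 1} ≃ {z : C // z ^ k = 1} :=
    { toFun := fun z => ⟨⟨z.1, Subgroup.mem_centralizer_singleton_iff.mpr z.2.1.eq.symm⟩,
        Subtype.ext z.2.2⟩
      invFun := fun z => ⟨z.1.1, (Subgroup.mem_centralizer_singleton_iff.mp z.1.2).symm,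
        congrArg Subtype.val z.2⟩
      left_inv := fun z => rfl
      right_inv := fun z => rfl }
  rw [Nat.card_congr e1, card_pow_eq_one_quotient Z hZ k (by rw [hZcard]; exact hk)]
  have hcard : Nat.card C = Nat.card (C ⧸ Z) * Nat.card Z :=
    Subgroup.card_eq_card_quotient_mul_card_subgroup Z
  have hZ2 : 2 ≤ Nat.card Z := by
    rw [hZcard]
    have h0 : 0 < orderOf y := orderOf_pos y
    have h1 : orderOf y ≠ 1 := fun h => hy (orderOf_eq_one_iff.mp h)
    omega
  have hlt : Nat.card (C ⧸ Z) < Nat.card G := by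
    have h1 : Nat.card C ≤ Nat.card G := Subgroup.card_le_card_group C
    have h2 : 0 < Nat.card (C ⧸ Z) := Nat.card_pos
    nlinarith
  have hgcd : Nat.gcd k (Nat.card C) = Nat.gcd k (Nat.card (C ⧸ Z)) := by
    rw [hcard]
    exact Nat.Coprime.gcd_mul_right_cancel_right _ (by rw [hZcard]; exact hk)
  rw [hgcd]
  have h3 := IH (C ⧸ Z) hlt _ (Nat.gcd_dvd_right k (Nat.card (C ⧸ Z)))
  rwa [Nat.card_congr (Equiv.subtypeEquivRight (fun x => pow_eq_one_iff_gcd_card x k))] at h3

theorem pow_dvd_card_part {G : Type*} [Group G] [Finite G] (p a k : ℕ) (hp : p.Prime) :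
    p ^ a ∣ Nat.card {x : G // x ^ (p ^ (a + 1) * k) = 1 ∧ x ^ (p ^ a * k) ≠ 1} := by
  classical
  have : Fintype G := Fintype.ofFinite G
  let f : {x : G // x ^ (p ^ (a + 1) * k) = 1 ∧ x ^ (p ^ a * k) ≠ 1} → Fin (Nat.card G + 1) :=
    fun x => ⟨orderOf x.1, Nat.lt_succ_of_le (orderOf_le_card_univ.trans (Nat.card_eq_fintype_card).ge)⟩
  rw [Nat.card_congr (Equiv.sigmaFiberEquiv f).symm, Nat.card_sigma]
  apply Finset.dvd_sum
  intro d _
  by_cases hne : Nonempty {x // f x = d}
  · obtain ⟨⟨⟨x, hx1, hx2⟩, hxd⟩⟩ := hne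
    have hxd' : orderOf x = (d : ℕ) := congrArg Fin.val hxd
    have hd1 : (d : ℕ) ∣ p ^ (a + 1) * k := hxd' ▸ orderOf_dvd_of_pow_eq_one hx1
    have hd2 : ¬ (d : ℕ) ∣ p ^ a * k := by
      intro h
      exact hx2 (orderOf_dvd_iff_pow_eq_one.mp (hxd' ▸ h))
    have hpd : p ^ (a + 1) ∣ (d : ℕ) := by
      obtain ⟨d₁, d₂, h1, h2, h3⟩ := exists_dvd_and_dvd_of_dvd_mul hd1
      obtain ⟨j, hj, rfl⟩ := (Nat.dvd_prime_pow hp).mp h1
      rcases Nat.lt_or_ge j (a + 1) with hlt | hge
      · exfalso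
        apply hd2
        rw [h3]
        exact Nat.mul_dvd_mul (pow_dvd_pow p (Nat.lt_succ_iff.mp hlt)) h2
      · have : j = a + 1 := le_antisymm hj hge
        rw [h3, this]
        exact dvd_mul_right _ _
    have e : {x // f x = d} ≃ {x : G // orderOf x = (d : ℕ)} :=
      { toFun := fun x => ⟨x.1.1, congrArg Fin.val x.2⟩
        invFun := fun x => ⟨⟨x.1, by
          refine ⟨orderOf_dvd_iff_pow_eq_one.mp (by rw [x.2]; exact hd1), fun h => hd2 ?_⟩
          rw [← x.2]; exact orderOf_dvd_of_pow_eq_one h⟩, Fin.ext x.2⟩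
        left_inv := fun x => rfl
        right_inv := fun x => rfl }
    rw [Nat.card_congr e]
    refine dvd_trans ?_ (totient_dvd_card_orderOf (G := G) (d : ℕ))
    refine dvd_trans ?_ (Nat.totient_dvd_of_dvd hpd)
    rw [Nat.totient_prime_pow_succ hp]
    exact dvd_mul_right _ _
  · rw [not_nonempty_iff] at hne
    simp

theorem frobenius_dvd_aux (N : ℕ) : ∀ (G : Type u) [Group G] [Finite G], Nat.card G = N →
    ∀ n, n ∣ Nat.card G → n ∣ Nat.card {x : G // x ^ n = 1} := by
  induction N using Nat.strong_induction_on with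
  | _ N IHN =>
  intro G _ _ hGN
  have IH : ∀ (H : Type u) [Group H] [Finite H], Nat.card H < Nat.card G →
      ∀ n, n ∣ Nat.card H → n ∣ Nat.card {x : H // x ^ n = 1} := by
    intro H _ _ hlt
    exact IHN (Nat.card H) (hGN ▸ hlt) H rfl
  have inner : ∀ q n : ℕ, n * q = Nat.card G → n ∣ Nat.card {x : G // x ^ n = 1} := by
    intro q
    induction q using Nat.strong_induction_on with
    | _ q IHq =>
    intro n hnq
    have hGpos : 0 < Nat.card G := Nat.card_pos
    have hn0 : n ≠ 0 := by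
      rintro rfl
      simp at hnq
      omega
    have hq0 : q ≠ 0 := by
      rintro rfl
      simp at hnq
      omega
    by_cases hq1 : q = 1
    · subst hq1
      rw [mul_one] at hnq
      have : Nat.card {x : G // x ^ n = 1} = Nat.card G := by
        apply Nat.card_congr
        exact Equiv.subtypeUnivEquiv (fun x => by rw [hnq]; exact pow_card_eq_one')
      rw [this, hnq]
    · have hp : (q.minFac).Prime := Nat.minFac_prime hq1
      set p := q.minFac with hpdef
      obtain ⟨q', hq'⟩ : p ∣ q := Nat.minFac_dvd q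
      have hq'lt : q' < q := by
        have h2 : 2 ≤ p := hp.two_le
        have hq'0 : 0 < q' := by
          rcases Nat.eq_zero_or_pos q' with h | h
          · rw [h, mul_zero] at hq'; exact absurd hq' hq0
          · exact h
        rw [hq']
        nlinarith
      obtain ⟨a, k, hpk, rfl⟩ := Nat.exists_eq_pow_mul_and_not_dvd hn0 p hp.ne_one
      have hM : p ^ a * k * p = p ^ (a + 1) * k := by ring
      have h1 := IHq q' hq'lt (p ^ a * k * p) (by rw [← hnq, hq']; ring)
      rw [hM] at h1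
      have hcop : Nat.Coprime p k := (Nat.Prime.coprime_iff_not_dvd hp).mpr hpk
      have hsplit : Nat.card {x : G // x ^ (p ^ (a + 1) * k) = 1} =
          Nat.card {x : G // x ^ (p ^ a * k) = 1} +
            Nat.card {x : G // x ^ (p ^ (a + 1) * k) = 1 ∧ x ^ (p ^ a * k) ≠ 1} := by
        classical
        rw [← Nat.card_sum]
        apply Nat.card_congr
        refine (Equiv.sumCompl (fun x : {x : G // x ^ (p ^ (a + 1) * k) = 1} =>
          x.1 ^ (p ^ a * k) = 1)).symm.trans (Equiv.sumCongr ?_ ?_)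
        · refine (Equiv.subtypeSubtypeEquivSubtypeInter (fun x : G => x ^ (p ^ (a + 1) * k) = 1)
            (fun x => x ^ (p ^ a * k) = 1)).trans (Equiv.subtypeEquivRight ?_)
          intro x
          refine ⟨fun h => h.2, fun h => ⟨?_, h⟩⟩
          rw [← hM, pow_mul, h, one_pow]
        · exact Equiv.subtypeSubtypeEquivSubtypeInter (fun x : G => x ^ (p ^ (a + 1) * k) = 1)
            (fun x => ¬ x ^ (p ^ a * k) = 1)
      have hB1 := pow_dvd_card_part (G := G) p a k hp
      have hkG : k ∣ Nat.card G := by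
        rw [← hnq]
        exact Dvd.dvd.mul_right (dvd_mul_left _ _) _
      have hB2 : k ∣ Nat.card {x : G // x ^ (p ^ (a + 1) * k) = 1 ∧ x ^ (p ^ a * k) ≠ 1} := by
        rw [card_decomp (hcop.pow_left (a + 1)) (fun x => x ^ (p ^ a * k) ≠ 1)
          (fun y => y ^ (p ^ (a + 1)) = 1 ∧ y ^ (p ^ a) ≠ 1) (fun y hy => hy.1)]
        · apply dvd_card_pairs (fun y : G => y ^ (p ^ (a + 1)) = 1 ∧ y ^ (p ^ a) ≠ 1) ?_ k hkG
          · intro y hy
            apply gcd_dvd_card_commute IH
            · rintro rfl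
              exact hy.2 (one_pow _)
            · exact Nat.Coprime.coprime_dvd_left (orderOf_dvd_of_pow_eq_one hy.1)
                (hcop.pow_left (a + 1))
          · intro g y hy
            rw [conj_pow, conj_pow, hy.1]
            refine ⟨by simp, fun h => hy.2 ?_⟩
            have := congrArg (fun w => g⁻¹ * w * g) h
            simpa [mul_assoc] using this
        · intro y z hc hy hz
          have h2 : (y * z) ^ (p ^ a * k) = (y ^ (p ^ a)) ^ k := by
            rw [hc.mul_pow, pow_mul y, mul_comm (p ^ a) k, pow_mul z, hz, one_pow, mul_one]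
          rw [h2]
          constructor
          · intro h
            refine ⟨hy, fun h' => h ?_⟩
            rw [h', one_pow]
          · rintro ⟨-, h⟩ h'
            apply h
            apply eq_one_of_pow_coprime hcop _ h'
            rw [← pow_mul, ← pow_succ, hy]
      have hB : p ^ a * k ∣ Nat.card {x : G // x ^ (p ^ (a + 1) * k) = 1 ∧ x ^ (p ^ a * k) ≠ 1} :=
        Nat.Coprime.mul_dvd_of_dvd_of_dvd (hcop.pow_left a) hB1 hB2
      have h3 : p ^ a * k ∣ Nat.card {x : G // x ^ (p ^ (a + 1) * k) = 1} :=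
        dvd_trans ⟨p, by ring⟩ h1
      rw [hsplit] at h3
      exact (Nat.dvd_add_left hB).mp h3
  rintro n ⟨q, hq⟩
  exact inner q n hq.symm

/-- **Frobenius' theorem**: if `n` divides the order of `G`, it divides the number of solutions of
`x ^ n = 1`. -/
theorem frobenius_dvd {G : Type u} [Group G] [Finite G] (n : ℕ) (hn : n ∣ Nat.card G) :
    n ∣ Nat.card {x : G // x ^ n = 1} :=
  frobenius_dvd_aux (Nat.card G) G rfl n hn

/-- Frobenius' theorem, gcd form. -/
theorem frobenius_gcd_dvd {G : Type u} [Group G] [Finite G] (k : ℕ) :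
    Nat.gcd k (Nat.card G) ∣ Nat.card {x : G // x ^ k = 1} := by
  have h := frobenius_dvd (G := G) _ (Nat.gcd_dvd_right k (Nat.card G))
  rwa [Nat.card_congr (Equiv.subtypeEquivRight (fun x => pow_eq_one_iff_gcd_card x k))] at h

/-- Frobenius' theorem inside a centralizer. -/
theorem gcd_dvd_card_commute' {G : Type u} [Group G] [Finite G] (y : G) (k : ℕ) :
    Nat.gcd k (Nat.card (Subgroup.centralizer ({y} : Set G))) ∣
      Nat.card {z : G // Commute y z ∧ z ^ k = 1} := by
  have e1 : {z : G // Commute y z ∧ z ^ k = 1} ≃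
      {z : Subgroup.centralizer ({y} : Set G) // z ^ k = 1} :=
    { toFun := fun z => ⟨⟨z.1, Subgroup.mem_centralizer_singleton_iff.mpr z.2.1.eq.symm⟩,
        Subtype.ext z.2.2⟩
      invFun := fun z => ⟨z.1.1, (Subgroup.mem_centralizer_singleton_iff.mp z.1.2).symm,
        congrArg Subtype.val z.2⟩
      left_inv := fun z => rfl
      right_inv := fun z => rfl }
  rw [Nat.card_congr e1]
  exact frobenius_gcd_dvd k

/-- The part of `N` prime to `n`. -/
theorem coprime_div_gcd_pow (N n : ℕ) (hN : N ≠ 0) :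
    Nat.Coprime (N / Nat.gcd N (n ^ N)) n := by
  rw [Nat.coprime_iff_gcd_eq_one]
  by_contra h
  obtain ⟨r, hr, hrd⟩ := Nat.exists_prime_and_dvd h
  have hr1 : r ∣ N / Nat.gcd N (n ^ N) := hrd.trans (Nat.gcd_dvd_left _ _)
  have hr2 : r ∣ n := hrd.trans (Nat.gcd_dvd_right _ _)
  have hd : Nat.gcd N (n ^ N) ∣ N := Nat.gcd_dvd_left _ _
  have h1 : r ^ (N.factorization r) ∣ Nat.gcd N (n ^ N) := by
    apply Nat.dvd_gcd (Nat.ordProj_dvd N r)
    exact (pow_dvd_pow r (Nat.factorization_lt r hN).le).trans (pow_dvd_pow_of_dvd hr2 N)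
  have h2 : r * Nat.gcd N (n ^ N) ∣ N := by
    obtain ⟨c, hc⟩ := hr1
    have : N = Nat.gcd N (n ^ N) * (r * c) := by
      rw [← hc, Nat.mul_div_cancel' hd]
    exact ⟨c, by rw [mul_comm r, mul_assoc]; exact this⟩
  apply Nat.pow_succ_factorization_not_dvd hN hr
  rw [pow_succ']
  exact (Nat.mul_dvd_mul_left r h1).trans h2

/-- The number of elements whose order is divisible by `n` is divisible by the largest divisor of
the group order prime to `n`. -/
theorem dvd_card_dvd_orderOf {G : Type u} [Group G] [Finite G] (n : ℕ) :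
    (Nat.card G / Nat.gcd (Nat.card G) (n ^ Nat.card G)) ∣ Nat.card {g : G // n ∣ orderOf g} := by
  set N := Nat.card G with hN
  have hN0 : N ≠ 0 := Nat.card_pos.ne'
  set N1 := Nat.gcd N (n ^ N) with hN1
  set N2 := N / N1 with hN2
  have hmul : N1 * N2 = N := Nat.mul_div_cancel' (Nat.gcd_dvd_left _ _)
  have hc2 : Nat.Coprime N2 n := coprime_div_gcd_pow N n hN0
  have hc12 : Nat.Coprime N1 N2 :=
    (Nat.Coprime.coprime_dvd_right (Nat.gcd_dvd_right N (n ^ N)) (hc2.pow_right N)).symm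
  have e0 : {g : G // n ∣ orderOf g} ≃ {x : G // x ^ (N1 * N2) = 1 ∧ n ∣ orderOf x} :=
    Equiv.subtypeEquivRight (fun x => ⟨fun h => ⟨by rw [hmul]; exact pow_card_eq_one', h⟩,
      fun h => h.2⟩)
  rw [Nat.card_congr e0, card_decomp hc12 (fun x => n ∣ orderOf x)
    (fun y => y ^ N1 = 1 ∧ n ∣ orderOf y) (fun y hy => hy.1)]
  · apply dvd_card_pairs (fun y : G => y ^ N1 = 1 ∧ n ∣ orderOf y) ?_ N2 ⟨N1, by rw [← hN, ← hmul]; ring⟩
    · intro y _
      exact gcd_dvd_card_commute' y N2
    · intro g y hy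
      rw [conj_pow, hy.1]
      refine ⟨by simp, ?_⟩
      have : orderOf (g * y * g⁻¹) = orderOf y := (MulAut.conj g).orderOf_eq y
      rw [this]
      exact hy.2
  · intro y z hc hy hz
    have hoy : orderOf y ∣ N1 := orderOf_dvd_of_pow_eq_one hy
    have hoz : orderOf z ∣ N2 := orderOf_dvd_of_pow_eq_one hz
    have hco : Nat.Coprime (orderOf y) (orderOf z) :=
      Nat.Coprime.coprime_dvd_left hoy (Nat.Coprime.coprime_dvd_right hoz hc12)
    rw [hc.orderOf_mul_eq_mul_orderOf_of_coprime hco]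
    have hnz : Nat.Coprime n (orderOf z) := (Nat.Coprime.coprime_dvd_left hoz hc2).symm
    rw [hnz.dvd_mul_right]
    exact ⟨fun h => ⟨hy, h⟩, fun h => h.2⟩

end Cfsg.Agent.Lib.Helper70
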