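import Mathlib

set_option autoImplicit false
open scoped Pointwise
open MulAction

namespace Cfsg.Agent.Lib.Helper70

/-- If every stabilizer is small, the size of the set acted on is divisible by `d`. -/
theorem dvd_card_of_stabilizer {G X : Type*} [Group G] [Finite G] [MulAction G X] [Finite X] (d : ℕ)
    (h : ∀ x : X, d * Nat.card (stabilizer G x) ∣ Nat.card G) : d ∣ Nat.card X := by
  classical
  have : Fintype (Quotient (orbitRel G X)) := Fintype.ofFinite _
  rw [Nat.card_congr (selfEquivSigmaOrbits G X), Nat.card_sigma]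
  apply Finset.dvd_sum
  intro ω _
  have h1 := h ω.out
  have h2 : Nat.card (orbit G ω.out) * Nat.card (stabilizer G ω.out) = Nat.card G := by
    have := (stabilizer G ω.out).card_mul_index
    rw [index_stabilizer, mul_comm] at this
    exact this
  rw [← h2] at h1
  exact Nat.dvd_of_mul_dvd_mul_right Nat.card_pos h1

/-- The stabilizer of a finite subset under left multiplication has order dividing its size. -/
theorem card_stabilizer_dvd_ncard {G : Type*} [Group G] (s : Set G) :
    Nat.card (stabilizer G s) ∣ s.ncard := by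
  have h1 : (s⁻¹ * (stabilizer G s : Set G)) = s⁻¹ := by
    conv_rhs => rw [← stabilizer_mul_self s]
    rw [mul_inv_rev, inv_coe_set]
  have h2 := Subgroup.card_mul_eq_card_subgroup_mul_card_quotient (stabilizer G s) s⁻¹
  rw [h1] at h2
  have h3 : Nat.card (s⁻¹ : Set G) = s.ncard := by
    rw [Nat.card_coe_set_eq, Set.ncard_inv]
  rw [← h3, h2]
  exact dvd_mul_right _ _

/-- The stabilizer under left multiplication of a right coset of `H` is `H`. -/
theorem stabilizer_right_coset {G : Type*} [Group G] (H : Subgroup G) (x : G) :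
    stabilizer G (MulOpposite.op x • (H : Set G)) = H := by
  ext g
  rw [mem_stabilizer_iff, smul_comm, smul_left_cancel_iff]
  rw [← mem_stabilizer_iff, stabilizer_subgroup]

/-- Subsets of size `k` whose stabilizer does not have order `k`, as a sub-action. -/
def smallStab (G : Type*) [Group G] (k : ℕ) : SubMulAction G (Set G) where
  carrier := {s | s.ncard = k ∧ Nat.card (stabilizer G s) ≠ k}
  smul_mem' g s hs := by
    refine ⟨by rw [Set.ncard_smul_set]; exact hs.1, ?_⟩
    rw [stabilizer_smul_eq_stabilizer_map_conj, Subgroup.card_map_of_injective (MulEquiv.injective _)]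
    exact hs.2

theorem dvd_card_smallStab {G : Type*} [Group G] [Finite G] {p β m : ℕ} (hp : p.Prime)
    (hG : Nat.card G = p ^ β * m) : p * m ∣ Nat.card (smallStab G (p ^ β)) := by
  apply dvd_card_of_stabilizer (G := G)
  intro y
  rw [SubMulAction.stabilizer_of_subMul]
  obtain ⟨h1, h2⟩ := y.2
  have h3 : Nat.card (stabilizer G (y : Set G)) ∣ p ^ β := by
    have := card_stabilizer_dvd_ncard (y : Set G)
    rwa [h1] at this
  obtain ⟨j, hj, hj'⟩ := (Nat.dvd_prime_pow hp).mp h3
  have hlt : j < β := by
    rcases hj.lt_or_eq with h | h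
    · exact h
    · exact absurd (by rw [hj', h]) h2
  rw [hj', hG]
  have : p ^ β = p * p ^ j * p ^ (β - (j + 1)) := by
    rw [← pow_succ', ← pow_add]
    congr 1
    omega
  rw [this]
  exact ⟨p ^ (β - (j + 1)), by ring⟩

theorem mem_orbit_op_of_card_stabilizer {G : Type*} [Group G] [Finite G] {k : ℕ} (hk : 0 < k)
    (s : Set G) (h1 : s.ncard = k) (h2 : Nat.card (stabilizer G s) = k) :
    s ∈ orbit Gᵐᵒᵖ ((stabilizer G s : Subgroup G) : Set G) := by
  have hne : s.Nonempty := by
    rw [← Set.ncard_pos (Set.toFinite s), h1]; exact hk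
  obtain ⟨x, hx⟩ := hne
  refine ⟨MulOpposite.op x, ?_⟩
  apply Set.eq_of_subset_of_ncard_le (op_smul_set_stabilizer_subset hx) _ (Set.toFinite s)
  rw [Set.ncard_smul_set, h1]
  exact h2.symm.le

theorem card_orbit_op {G : Type*} [Group G] [Finite G] {k m : ℕ} (hk : 0 < k)
    (hG : Nat.card G = k * m) (H : Subgroup G) (hH : Nat.card H = k) :
    Nat.card (orbit Gᵐᵒᵖ (H : Set G)) = m := by
  have h1 := (stabilizer Gᵐᵒᵖ (H : Set G)).card_mul_index
  rw [index_stabilizer, stabilizer_op_subgroup, ← Nat.card_congr H.equivOp, hH,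
    ← Nat.card_congr (MulOpposite.opEquiv (α := G)), hG] at h1
  exact Nat.eq_of_mul_eq_mul_left hk h1

/-- The subsets of size `k` with stabilizer of order `k` are the right cosets of the subgroups
of order `k`. -/
noncomputable def bigStabEquiv (G : Type*) [Group G] [Finite G] {k : ℕ} (hk : 0 < k) :
    {s : Set G // s.ncard = k ∧ Nat.card (stabilizer G s) = k} ≃
      Σ H : {H : Subgroup G // Nat.card H = k}, orbit Gᵐᵒᵖ ((H : Subgroup G) : Set G) where
  toFun s := ⟨⟨stabilizer G s.1, s.2.2⟩, ⟨s.1, mem_orbit_op_of_card_stabilizer hk s.1 s.2.1 s.2.2⟩⟩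
  invFun t := ⟨t.2.1, by
    obtain ⟨H, ⟨t, ⟨x, rfl⟩⟩⟩ := t
    induction x using MulOpposite.rec' with | _ x => ?_
    refine ⟨?_, ?_⟩
    · change (MulOpposite.op x • ((H : Subgroup G) : Set G)).ncard = k
      rw [Set.ncard_smul_set]
      exact H.2
    · change Nat.card (stabilizer G (MulOpposite.op x • ((H : Subgroup G) : Set G))) = k
      rw [stabilizer_right_coset]
      exact H.2⟩
  left_inv s := rfl
  right_inv t := by
    obtain ⟨H, ⟨t, ⟨x, rfl⟩⟩⟩ := t
    induction x using MulOpposite.rec' with | _ x => ?_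
    apply Sigma.subtype_ext
    · apply Subtype.ext
      change stabilizer G (MulOpposite.op x • ((H : Subgroup G) : Set G)) = H
      rw [stabilizer_right_coset]
    · rfl

theorem card_bigStab {G : Type*} [Group G] [Finite G] {k m : ℕ} (hk : 0 < k)
    (hG : Nat.card G = k * m) :
    Nat.card {s : Set G // s.ncard = k ∧ Nat.card (stabilizer G s) = k} =
      Nat.card {H : Subgroup G // Nat.card H = k} * m := by
  classical
  have : Fintype {H : Subgroup G // Nat.card H = k} := Fintype.ofFinite _
  rw [Nat.card_congr (bigStabEquiv G hk), Nat.card_sigma]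
  rw [Finset.sum_congr rfl (fun H _ => card_orbit_op hk hG H.1 H.2)]
  rw [Finset.sum_const, Finset.card_univ, Nat.card_eq_fintype_card, smul_eq_mul]

/-- Wielandt's congruence. -/
theorem card_subsets_modEq {G : Type*} [Group G] [Finite G] {p β m : ℕ} (hp : p.Prime)
    (hG : Nat.card G = p ^ β * m) :
    Nat.card {s : Set G // s.ncard = p ^ β} ≡
      Nat.card {H : Subgroup G // Nat.card H = p ^ β} * m [MOD p * m] := by
  have hk : 0 < p ^ β := pow_pos hp.pos β
  have e : {s : Set G // s.ncard = p ^ β} ≃
      {s : Set G // s.ncard = p ^ β ∧ Nat.card (stabilizer G s) = p ^ β} ⊕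
        {s : Set G // s.ncard = p ^ β ∧ Nat.card (stabilizer G s) ≠ p ^ β} := by
    classical
    refine (Equiv.sumCompl (fun s : {s : Set G // s.ncard = p ^ β} =>
      Nat.card (stabilizer G s.1) = p ^ β)).symm.trans (Equiv.sumCongr ?_ ?_)
    · exact Equiv.subtypeSubtypeEquivSubtypeInter (fun s : Set G => s.ncard = p ^ β)
        (fun s => Nat.card (stabilizer G s) = p ^ β)
    · exact Equiv.subtypeSubtypeEquivSubtypeInter (fun s : Set G => s.ncard = p ^ β)
        (fun s => ¬ Nat.card (stabilizer G s) = p ^ β)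
  rw [Nat.card_congr e, Nat.card_sum, card_bigStab hk hG]
  obtain ⟨c, hc⟩ := dvd_card_smallStab hp hG
  have hc' : Nat.card {s : Set G // s.ncard = p ^ β ∧ Nat.card (stabilizer G s) ≠ p ^ β} =
      p * m * c := hc
  rw [hc']
  exact (Nat.modEq_iff_dvd' (Nat.le_add_right _ _)).mpr (by simp) |>.symm

/-- In a finite cyclic group two subgroups of the same order are equal. -/
theorem eq_of_card_eq_of_isCyclic {C : Type*} [Group C] [Finite C] [IsCyclic C] (H K : Subgroup C)
    (h : Nat.card H = Nat.card K) : H = K := by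
  classical
  have : Fintype C := Fintype.ofFinite C
  have key : ∀ L : Subgroup C, (L : Set C) = {x : C | x ^ Nat.card L = 1} := by
    intro L
    apply Set.eq_of_subset_of_ncard_le _ _ (Set.toFinite _)
    · intro x hx
      have : (⟨x, hx⟩ : L) ^ Nat.card L = 1 := pow_card_eq_one'
      exact congrArg Subtype.val this
    · have h1 := IsCyclic.card_pow_eq_one_le (α := C) (n := Nat.card L) Nat.card_pos
      have h2 : ({x : C | x ^ Nat.card L = 1} : Set C).ncard =
          (Finset.univ.filter fun a : C => a ^ Nat.card L = 1).card := by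
        rw [← Set.ncard_coe_finset]
        congr 1
        ext x
        simp
      rw [h2]
      exact h1
  apply SetLike.coe_injective
  rw [key H, key K, h]

/-- **Frobenius' generalisation of Sylow's third theorem.** -/
theorem card_subgroups_prime_pow_modEq_one {G : Type*} [Group G] [Finite G] (p β : ℕ) (hp : p.Prime)
    (hdiv : p ^ β ∣ Nat.card G) : Nat.card {H : Subgroup G // Nat.card H = p ^ β} ≡ 1 [MOD p] := by
  obtain ⟨m, hm⟩ := hdiv
  have hm0 : m ≠ 0 := by
    rintro rfl
    exact Nat.card_pos.ne' hm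
  have : NeZero (p ^ β * m) := ⟨mul_ne_zero (pow_pos hp.pos β).ne' hm0⟩
  let C := Multiplicative (ZMod (p ^ β * m))
  have hC : Nat.card C = p ^ β * m := by
    change Nat.card (ZMod (p ^ β * m)) = _
    rw [Nat.card_eq_fintype_card, ZMod.card]
  have h1 := card_subsets_modEq hp hm
  have h2 := card_subsets_modEq (G := C) hp hC
  have hone : Nat.card {H : Subgroup C // Nat.card H = p ^ β} = 1 := by
    rw [Nat.card_eq_one_iff_unique]
    constructor
    · constructor
      intro H K
      exact Subtype.ext (eq_of_card_eq_of_isCyclic H.1 K.1 (H.2.trans K.2.symm))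
    · have : Fact p.Prime := ⟨hp⟩
      obtain ⟨K, hK⟩ := Sylow.exists_subgroup_card_pow_prime (G := C) p (n := β)
        (by rw [hC]; exact dvd_mul_right _ _)
      exact ⟨⟨K, hK⟩⟩
  rw [hone, one_mul] at h2
  obtain ⟨e⟩ : Nonempty (G ≃ C) := Finite.card_eq.mp (hm.trans hC.symm)
  have hcongr : Nat.card {s : Set G // s.ncard = p ^ β} = Nat.card {s : Set C // s.ncard = p ^ β} := by
    apply Nat.card_congr
    refine (Equiv.Set.congr e).subtypeEquiv ?_
    intro s
    rw [Equiv.Set.congr_apply, Set.ncard_image_of_injective _ e.injective]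
  rw [hcongr] at h1
  have h3 : Nat.card {H : Subgroup G // Nat.card H = p ^ β} * m ≡ 1 * m [MOD p * m] := by
    rw [one_mul]
    exact h1.symm.trans h2
  exact Nat.ModEq.mul_right_cancel' hm0 h3

end Cfsg.Agent.Lib.Helper70
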