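import Mathlib
import Cfsg.Agent.S3738

set_option autoImplicit false

namespace Cfsg.Agent.Lib.Helper70.Rank2

open Cfsg.Agent.S3738

theorem main' {P : Type*} [Group P] [Finite P] (hP : IsPGroup 2 P) (σ τ : MulAut P)
    (hfpf : ∀ x, σ x = x → x = 1) (hτ3 : τ ^ 3 = 1)
    (hL : ∀ B : Subgroup P, (∀ (α : MulAut P) (x : P), α x ∈ B ↔ x ∈ B) →
      ∃ m, Nat.card B = Nat.card (B ⊓ fx τ : Subgroup P) + 9 * m)
    (hrank : ∀ E : Subgroup P, (∀ a ∈ E, ∀ b ∈ E, a * b = b * a) → (∀ a ∈ E, a * a = 1) →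
      Nat.card E ≤ 4) : τ = 1 := by
  have : Fact (Nat.Prime 2) := ⟨Nat.prime_two⟩
  obtain ⟨C, hCchar, hC1, hC2, hC3⟩ := Cfsg.Agent.S0093.result hP
  apply Cfsg.Agent.S0121.result hP C hCchar hC1 hC2 hC3 τ
    (Nat.Coprime.coprime_dvd_left (orderOf_dvd_of_pow_eq_one hτ3) (by norm_num))
  obtain ⟨Z, hZdef⟩ : ∃ Z : Subgroup P, Z = C ⊓ Subgroup.centralizer (C : Set P) := ⟨_, rfl⟩
  have hZmem : ∀ x, x ∈ Z ↔ x ∈ C ∧ ∀ c ∈ C, c * x = x * c := by
    intro x
    rw [hZdef, Subgroup.mem_inf, Subgroup.mem_centralizer_iff]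
    rfl
  have hZC : Z ≤ C := fun x hx => ((hZmem x).1 hx).1
  have hZc : ∀ r ∈ Z, ∀ u ∈ C, r * u = u * r := fun r hr u hu => (((hZmem r).1 hr).2 u hu).symm
  have hCα : ∀ (α : MulAut P) (x : P), α x ∈ C ↔ x ∈ C := by
    intro α x
    have := (Subgroup.characteristic_iff_comap_eq.1 hCchar) α
    conv_rhs => rw [← this]
    rfl
  have hZα1 : ∀ (α : MulAut P) (x : P), x ∈ Z → α x ∈ Z := by
    intro α x hx
    rw [hZmem]
    refine ⟨(hCα α x).2 (hZC hx), ?_⟩
    intro c hc
    have h1 : α⁻¹ c ∈ C := (hCα _ _).2 hc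
    have h2 := hZc x hx _ h1
    have h3 := congrArg α h2
    rw [map_mul, map_mul, MulAut.apply_inv_self] at h3
    exact h3.symm
  have hZα : ∀ (α : MulAut P) (x : P), α x ∈ Z ↔ x ∈ Z := by
    intro α x
    refine ⟨fun h => ?_, hZα1 α x⟩
    have := hZα1 α⁻¹ _ h
    rwa [MulAut.inv_apply_self] at this
  have hsq : ∀ x ∈ C, x * x ∈ Z := by
    intro x hx
    rw [hZdef]
    refine ⟨C.mul_mem hx hx, ?_⟩
    apply hC1
    refine ⟨(⟨x, hx⟩ : C) ^ 2, Cfsg.Agent.Lib.Helper3.pow_p_mem_frattini (hP.to_subgroup C) _, ?_⟩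
    simp [pow_two]
  have hk : ∀ x ∈ C, ∀ y ∈ C, x⁻¹ * y * x * y⁻¹ ∈ Z := by
    intro x hx y hy
    rw [hZdef]
    apply hC2
    have := Subgroup.commutator_mem_commutator (C.inv_mem hx) (Subgroup.mem_top y)
    rw [commutatorElement_def, inv_inv] at this
    exact this
  -- the trivial case
  by_cases hZbot : ∀ x ∈ Z, x = 1
  · intro x hx
    have : x ∈ Z := by
      rw [hZmem]
      refine ⟨hx, fun c hc => ?_⟩
      have h1 := hZbot _ (hk x hx c hc)
      calc c * x = x * (x⁻¹ * c * x * c⁻¹) * c := by group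
        _ = x * c := by rw [h1, mul_one]
    rw [hZbot x this, map_one]
  push Not at hZbot
  obtain ⟨y, hyZ, hy1⟩ := hZbot
  -- an involution in Z
  have hinv : ∀ k : ℕ, ∀ y ∈ Z, y ^ (2 ^ k) = 1 → y ≠ 1 → ∃ z ∈ Z, z ≠ 1 ∧ z * z = 1 := by
    intro k
    induction k with
    | zero =>
      intro y _ h1 h2
      rw [pow_zero, pow_one] at h1
      exact absurd h1 h2
    | succ k ih =>
      intro y hy h1 h2
      by_cases h3 : y * y = 1
      · exact ⟨y, hy, h2, h3⟩
      · apply ih (y * y) (Z.mul_mem hy hy) _ h3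
        rw [← pow_two, ← pow_mul, ← pow_succ']
        exact h1
  obtain ⟨k0, hk0⟩ := hP y
  obtain ⟨z, hzZ, hz1, hz2⟩ := hinv k0 y hyZ hk0 hy1
  have hZcomm : ∀ a ∈ Z, ∀ b ∈ Z, a * b = b * a := fun a ha b hb => hZc a ha b (hZC hb)
  obtain ⟨Ω, Z2, hΩ, hZ2, hidx⟩ := sq_index Z hZcomm
  have hΩZ : Ω ≤ Z := fun x hx => ((hΩ x).1 hx).1
  have hΩcard : Nat.card Ω ≤ 4 := by
    apply hrank
    · intro a ha b hb
      exact hZcomm a (hΩZ ha) b (hΩZ hb)
    · intro a ha
      exact ((hΩ a).1 ha).2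
  -- τ fixes Ω
  have hΩτ : ∀ x ∈ Ω, τ x = x := by
    obtain ⟨m, hm⟩ := hL Ω (by
      intro ρ x
      rw [hΩ, hΩ, hZα, ← map_mul]
      constructor
      · rintro ⟨h1, h2⟩
        refine ⟨h1, ?_⟩
        rw [← map_one ρ] at h2
        exact ρ.injective h2
      · rintro ⟨h1, h2⟩
        exact ⟨h1, by rw [h2, map_one]⟩)
    have hm0 : m = 0 := by omega
    rw [hm0, mul_zero, add_zero] at hm
    have h1 : (Ω ⊓ fx τ : Subgroup P) = Ω :=
      Subgroup.eq_of_le_of_card_ge inf_le_left hm.le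
    intro x hx
    rw [← h1] at hx
    exact hx.2
  -- τ fixes Z
  have hZτ' : ∀ k : ℕ, ∀ y ∈ Z, y ^ (2 ^ k) = 1 → τ y = y := by
    intro k
    induction k with
    | zero =>
      intro y _ h1
      rw [pow_zero, pow_one] at h1
      rw [h1, map_one]
    | succ k ih =>
      intro y hy h1
      have h2 : τ (y * y) = y * y := by
        apply ih (y * y) (Z.mul_mem hy hy)
        rw [← pow_two, ← pow_mul, ← pow_succ']
        exact h1
      have hτy : τ y ∈ Z := (hZα τ y).2 hy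
      have hw : y⁻¹ * τ y ∈ Ω := by
        rw [hΩ]
        refine ⟨Z.mul_mem (Z.inv_mem hy) hτy, ?_⟩
        calc y⁻¹ * τ y * (y⁻¹ * τ y) = y⁻¹ * (τ y * y⁻¹) * τ y := by group
          _ = y⁻¹ * (y⁻¹ * τ y) * τ y := by rw [hZcomm _ hτy _ (Z.inv_mem hy)]
          _ = (y * y)⁻¹ * τ (y * y) := by rw [map_mul]; group
          _ = 1 := by rw [h2, inv_mul_cancel]
      have h3 := hΩτ _ hw
      have h4 : τ (τ y) = y := by
        rw [map_mul, map_inv] at h3
        have h5 := ((hΩ _).1 hw).2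
        calc τ (τ y) = τ y * ((τ y)⁻¹ * τ (τ y)) := by group
          _ = τ y * (y⁻¹ * τ y) := by rw [h3]
          _ = y * ((y⁻¹ * τ y) * (y⁻¹ * τ y)) := by group
          _ = y := by rw [h5, mul_one]
      have h6 : (τ ^ 3) y = y := by rw [hτ3]; rfl
      have h7 : (τ ^ 3) y = τ (τ (τ y)) := rfl
      rw [h7, h4] at h6
      exact h6
  have hZτ : ∀ y ∈ Z, τ y = y := by
    intro y hy
    obtain ⟨k, hk⟩ := hP y
    exact hZτ' k y hy hk
  -- |C : Z| ≤ 16
  have hidx16 : Z.relIndex C ≤ 16 := by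
    by_contra hcon
    push Not at hcon
    obtain ⟨x, hxC, hxZ, hx2⟩ := exists_sq_mem' C Z Z Z2 hZC le_rfl (by
        intro x hx
        obtain ⟨w, hw, rfl⟩ := (hZ2 x).1 hx
        exact Z.mul_mem hw hw) hZc (fun r hr => (hZ2 _).2 ⟨r, hr, rfl⟩) hsq hk (by
        intro x hx m hm
        rw [hZ2]
        refine ⟨m, hm, ?_⟩
        have h1 := hZc m hm x hx
        rw [eq_mul_inv_iff_mul_eq]
        calc m * m * (x * x) = m * (m * x) * x := by group
          _ = m * (x * m) * x := by rw [h1]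
          _ = (m * x) * (m * x) := by group
          _ = x * m * (x * m) := by rw [h1]) (by
        rw [hidx]
        calc (Nat.card Ω) ^ 2 ≤ 4 ^ 2 := Nat.pow_le_pow_left hΩcard 2
          _ < Z.relIndex C := by norm_num; exact hcon)
    obtain ⟨z0, hz0, hz0x⟩ := (hZ2 _).1 hx2
    obtain ⟨t, ht⟩ : ∃ t, t = x * z0⁻¹ := ⟨_, rfl⟩
    have htC : t ∈ C := by rw [ht]; exact C.mul_mem hxC (C.inv_mem (hZC hz0))
    have htZ : t ∉ Z := by
      intro h
      apply hxZ
      have : x = t * z0 := by rw [ht]; group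
      rw [this]
      exact Z.mul_mem h hz0
    have ht2 : t * t = 1 := by
      have h1 := hZc z0⁻¹ (Z.inv_mem hz0) x hxC
      calc t * t = x * (z0⁻¹ * x) * z0⁻¹ := by rw [ht]; group
        _ = x * (x * z0⁻¹) * z0⁻¹ := by rw [h1]
        _ = (x * x) * (z0 * z0)⁻¹ := by group
        _ = 1 := by rw [hz0x, mul_inv_cancel]
    have hσz : σ z ∈ Z := (hZα σ z).2 hzZ
    have hσz2 : σ z * σ z = 1 := by rw [← map_mul, hz2, map_one]
    obtain ⟨hE1, hE2⟩ := closure_invol ({z, σ z, t} : Set P) (by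
      rintro a (rfl | rfl | rfl) b (rfl | rfl | rfl)
      · rfl
      · exact hZc _ hzZ _ (hZC hσz)
      · exact hZc _ hzZ _ htC
      · exact hZc _ hσz _ (hZC hzZ)
      · rfl
      · exact hZc _ hσz _ htC
      · exact (hZc _ hzZ _ htC).symm
      · exact (hZc _ hσz _ htC).symm
      · rfl) (by
      rintro a (rfl | rfl | rfl)
      · exact hz2
      · exact hσz2
      · exact ht2)
    have hE := hrank _ hE1 hE2
    classical
    have hA : ∀ w ∈ Z, w ≠ t := by
      rintro w hw rfl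
      exact htZ hw
    have hB : ∀ w ∈ Z, w ≠ t * z := by
      intro w hw h
      apply htZ
      have : t = w * z⁻¹ := by rw [h]; group
      rw [this]
      exact Z.mul_mem hw (Z.inv_mem hzZ)
    have hσz1 : σ z ≠ 1 := by
      intro h
      apply hz1
      rw [← map_one σ] at h
      exact σ.injective h
    have hσzz : σ z ≠ z := fun h => hz1 (hfpf z h)
    have hcard5 : ({1, z, σ z, t, t * z} : Finset P).card = 5 := by
      rw [Finset.card_insert_of_notMem, Finset.card_insert_of_notMem,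
        Finset.card_insert_of_notMem, Finset.card_insert_of_notMem, Finset.card_singleton]
      all_goals simp only [Finset.mem_insert, Finset.mem_singleton, not_or]
      · intro h
        apply hz1
        have : t * 1 = t * z := by rw [mul_one]; exact h
        exact (mul_left_cancel this).symm
      · exact ⟨hA _ hσz, hB _ hσz⟩
      · exact ⟨hσzz.symm, hA _ hzZ, hB _ hzZ⟩
      · exact ⟨hz1.symm, hσz1.symm, hA _ Z.one_mem, hB _ Z.one_mem⟩
    have hsub : (({1, z, σ z, t, t * z} : Finset P) : Set P)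
        ⊆ (Subgroup.closure ({z, σ z, t} : Set P) : Set P) := by
      have hz' : z ∈ Subgroup.closure ({z, σ z, t} : Set P) :=
        Subgroup.subset_closure (by simp)
      have hσ' : σ z ∈ Subgroup.closure ({z, σ z, t} : Set P) :=
        Subgroup.subset_closure (by simp)
      have ht' : t ∈ Subgroup.closure ({z, σ z, t} : Set P) :=
        Subgroup.subset_closure (by simp)
      intro w hw
      simp only [Finset.coe_insert, Finset.coe_singleton, Set.mem_insert_iff,
        Set.mem_singleton_iff] at hw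
      rcases hw with rfl | rfl | rfl | rfl | rfl
      · exact Subgroup.one_mem _
      · exact hz'
      · exact hσ'
      · exact ht'
      · exact Subgroup.mul_mem _ ht' hz'
    have h5 := Set.ncard_le_ncard hsub (Set.toFinite _)
    rw [Set.ncard_coe_finset, hcard5] at h5
    have h6 : Nat.card (Subgroup.closure ({z, σ z, t} : Set P))
        = (Subgroup.closure ({z, σ z, t} : Set P) : Set P).ncard :=
      Nat.card_coe_set_eq _
    omega
  -- the final count
  obtain ⟨m, hm⟩ := hL C hCα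
  obtain ⟨F, hF⟩ : ∃ F : Subgroup P, F = C ⊓ fx τ := ⟨_, rfl⟩
  rw [← hF] at hm
  have hZF : Z ≤ F := fun x hx => by rw [hF]; exact ⟨hZC hx, hZτ x hx⟩
  have hFC : F ≤ C := by rw [hF]; exact inf_le_left
  have h1 : F.relIndex C ∣ Z.relIndex C := Subgroup.relIndex_dvd_of_le_left C hZF
  have h2 : F.relIndex C * Nat.card F = Nat.card C := by
    have := Subgroup.relIndex_mul_relIndex ⊥ F C bot_le hFC
    rw [Subgroup.relIndex_bot_left, Subgroup.relIndex_bot_left, mul_comm] at this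
    exact this
  obtain ⟨c, hc⟩ := (hP.to_subgroup C).exists_card_eq
  obtain ⟨f, hf⟩ := (hP.to_subgroup F).exists_card_eq
  have h3 : F.relIndex C ∣ 2 ^ c := hc ▸ Dvd.intro _ h2
  obtain ⟨j, hj, hj'⟩ := (Nat.dvd_prime_pow Nat.prime_two).1 h3
  have hZpos : 0 < Z.relIndex C := Nat.pos_of_ne_zero Subgroup.index_ne_zero_of_finite
  have h4 : F.relIndex C ≤ 16 := (Nat.le_of_dvd hZpos h1).trans hidx16
  have hj4 : j ≤ 4 := by
    by_contra hcon
    push Not at hcon
    have : 2 ^ 5 ≤ 2 ^ j := Nat.pow_le_pow_right (by norm_num) hcon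
    omega
  have hpos : 0 < F.relIndex C := by rw [hj']; positivity
  obtain ⟨e, he⟩ : ∃ e, F.relIndex C = e + 1 := ⟨_, (Nat.succ_pred_eq_of_pos hpos).symm⟩
  have h5 : e * Nat.card F = 9 * m := by
    have := h2
    rw [he, hm, add_mul, one_mul] at this
    linarith
  have h6 : 9 ∣ e := by
    apply Nat.Coprime.dvd_of_dvd_mul_right _ ⟨m, h5⟩
    rw [hf]
    apply Nat.Coprime.pow_right
    norm_num
  have he0 : e = 0 := by
    rw [he] at hj'
    interval_cases j <;> omega
  rw [he0] at he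
  have h7 : C ≤ F := Subgroup.relIndex_eq_one.1 he
  intro x hx
  have := h7 hx
  rw [hF] at this
  exact this.2

theorem dvd_card_of_free {A X : Type*} [Group A] [Finite A] [MulAction A X] [Finite X]
    (p : X → Prop) (hp : ∀ (a : A) (x : X), p x → p (a • x))
    (hfree : ∀ (a : A) (x : X), p x → a • x = x → a = 1) :
    Nat.card A ∣ Nat.card {x // p x} := by
  let S : SubMulAction A X :=
    { carrier := {x | p x}
      smul_mem' := fun a x hx => hp a x hx }
  have h1 : Nat.card A ∣ Nat.card S := by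
    apply Cfsg.Agent.Lib.Helper70.dvd_card_of_stabilizer (G := A)
    intro x
    have : MulAction.stabilizer A x = ⊥ := by
      rw [eq_bot_iff]
      intro a ha
      rw [MulAction.mem_stabilizer_iff] at ha
      rw [Subgroup.mem_bot]
      apply hfree a x x.2
      exact congrArg Subtype.val ha
    rw [this]
    simp
  exact h1

/-- An element of a group of order three fixing a point moved by the generator is trivial. -/
theorem eq_one_of_fix {P : Type*} [Group P] (e : MulAut P) (he : e ^ 3 = 1) (m : MulAut P)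
    (hm : m ∈ Subgroup.zpowers e) (x : P) (hmx : m x = x) (hx : e x ≠ x) : m = 1 := by
  by_contra hm1
  have he1 : e ≠ 1 := by
    rintro rfl
    exact hx rfl
  have hord : orderOf e = 3 := orderOf_eq_prime he he1
  have hcard : Nat.card (Subgroup.zpowers e) = 3 := by rw [Nat.card_zpowers, hord]
  have : Fact (Nat.Prime 3) := ⟨Nat.prime_three⟩
  have h1 : (⟨e, Subgroup.mem_zpowers e⟩ : Subgroup.zpowers e)
      ∈ Subgroup.zpowers (⟨m, hm⟩ : Subgroup.zpowers e) :=
    mem_zpowers_of_prime_card hcard (by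
      intro h
      exact hm1 (congrArg Subtype.val h))
  obtain ⟨k, hk⟩ := Subgroup.mem_zpowers_iff.1 h1
  have hk' : m ^ k = e := congrArg Subtype.val hk
  have h2 : m ∈ MulAction.stabilizer (MulAut P) x := hmx
  have h3 : m ^ k ∈ MulAction.stabilizer (MulAut P) x := Subgroup.zpow_mem _ h2 k
  rw [hk'] at h3
  exact hx h3

theorem count9 {P : Type*} [Group P] [Finite P] (γ δ : MulAut P) (hcomm : Commute γ δ)
    (hγ : γ ^ 3 = 1) (hδ : δ ^ 3 = 1) (hδ1 : δ ≠ 1)
    (hfree : ∀ x, γ x ≠ x → ∀ m ∈ Subgroup.zpowers γ, ∀ n ∈ Subgroup.zpowers δ,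
      m (n x) = x → m = 1 ∧ n = 1)
    (B : Subgroup P) (hB : ∀ (α : MulAut P) (x : P), α x ∈ B ↔ x ∈ B) :
    ∃ m, Nat.card B = Nat.card (B ⊓ fx γ : Subgroup P) + 9 * m := by
  have h1 : 9 ∣ Nat.card {x // x ∈ B ∧ γ x ≠ x} := by
    by_cases hγ1 : γ = 1
    · have : IsEmpty {x // x ∈ B ∧ γ x ≠ x} := by
        constructor
        rintro ⟨x, _, hx⟩
        apply hx
        rw [hγ1]
        rfl
      simp
    have hcc : ∀ (m : Subgroup.zpowers γ) (n : Subgroup.zpowers δ),
        Commute ((Subgroup.zpowers γ).subtype m) ((Subgroup.zpowers δ).subtype n) := by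
      rintro ⟨m, hm⟩ ⟨n, hn⟩
      obtain ⟨i, rfl⟩ := Subgroup.mem_zpowers_iff.1 hm
      obtain ⟨j, rfl⟩ := Subgroup.mem_zpowers_iff.1 hn
      exact hcomm.zpow_zpow i j
    let φ : Subgroup.zpowers γ × Subgroup.zpowers δ →* MulAut P :=
      MonoidHom.noncommCoprod (Subgroup.zpowers γ).subtype (Subgroup.zpowers δ).subtype hcc
    have hφ : ∀ a : Subgroup.zpowers γ × Subgroup.zpowers δ, φ a = (a.1 : MulAut P) * a.2 :=
      fun a => rfl
    have hcard : Nat.card (Subgroup.zpowers γ × Subgroup.zpowers δ) = 9 := by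
      rw [Nat.card_prod, Nat.card_zpowers, Nat.card_zpowers, orderOf_eq_prime hγ hγ1,
        orderOf_eq_prime hδ hδ1]
    rw [← hcard]
    let _ : MulAction (Subgroup.zpowers γ × Subgroup.zpowers δ) P := MulAction.compHom P φ
    have hsm : ∀ (a : Subgroup.zpowers γ × Subgroup.zpowers δ) (x : P),
        a • x = (a.1 : MulAut P) ((a.2 : MulAut P) x) := fun a x => rfl
    apply dvd_card_of_free (A := Subgroup.zpowers γ × Subgroup.zpowers δ) (X := P)
      (fun x => x ∈ B ∧ γ x ≠ x)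
    · rintro a x ⟨hx1, hx2⟩
      rw [hsm]
      refine ⟨(hB _ _).2 ((hB _ _).2 hx1), ?_⟩
      intro h
      apply hx2
      have e1 : γ * ((a.1 : MulAut P) * a.2) = ((a.1 : MulAut P) * a.2) * γ := by
        obtain ⟨⟨m, hm⟩, ⟨n, hn⟩⟩ := a
        obtain ⟨i, rfl⟩ := Subgroup.mem_zpowers_iff.1 hm
        obtain ⟨j, rfl⟩ := Subgroup.mem_zpowers_iff.1 hn
        have c1 : Commute γ (γ ^ i) := (Commute.refl γ).zpow_right i
        have c2 : Commute γ (δ ^ j) := hcomm.zpow_right j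
        exact (c1.mul_right c2).eq
      have e2 := congrArg (fun f : MulAut P => f x) e1
      simp only [MulAut.mul_apply] at e2
      rw [h] at e2
      exact ((a.2 : MulAut P).injective ((a.1 : MulAut P).injective e2.symm))
    · rintro a x ⟨_, hx2⟩ hax
      rw [hsm] at hax
      obtain ⟨h1, h2⟩ := hfree x hx2 _ a.1.2 _ a.2.2 hax
      exact Prod.ext (Subtype.ext h1) (Subtype.ext h2)
  obtain ⟨m, hm⟩ := h1
  refine ⟨m, ?_⟩
  have h2 : ((B : Set P) \ ((B ⊓ fx γ : Subgroup P) : Set P)).ncard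
      + ((B ⊓ fx γ : Subgroup P) : Set P).ncard = (B : Set P).ncard :=
    Set.ncard_sdiff_add_ncard_of_subset (by
      intro x hx
      exact hx.1) (Set.toFinite _)
  have h3 : ((B : Set P) \ ((B ⊓ fx γ : Subgroup P) : Set P)) = {x | x ∈ B ∧ γ x ≠ x} := by
    ext x
    simp only [Set.mem_sdiff, SetLike.mem_coe, Subgroup.mem_inf, mem_fx, Set.mem_ofPred_eq]
    tauto
  rw [h3] at h2
  have h4 : Nat.card {x // x ∈ B ∧ γ x ≠ x} = {x | x ∈ B ∧ γ x ≠ x}.ncard := by
    rw [← Nat.card_coe_set_eq]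
    rfl
  rw [← h4, hm] at h2
  have h5 : Nat.card B = (B : Set P).ncard := (Nat.card_coe_set_eq (B : Set P))
  have h6 : Nat.card (B ⊓ fx γ : Subgroup P) = ((B ⊓ fx γ : Subgroup P) : Set P).ncard :=
    (Nat.card_coe_set_eq ((B ⊓ fx γ : Subgroup P) : Set P))
  omega

theorem exists_invol_pow {G : Type*} [Group G] (k : ℕ) :
    ∀ x : G, x ^ (2 ^ k) = 1 → x ≠ 1 → ∃ j : ℕ, x ^ j ≠ 1 ∧ x ^ j * x ^ j = 1 := by
  induction k with
  | zero =>
    intro x h1 h2
    rw [pow_zero, pow_one] at h1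
    exact absurd h1 h2
  | succ k ih =>
    intro x h1 h2
    by_cases h3 : x * x = 1
    · exact ⟨1, by rwa [pow_one], by rwa [pow_one]⟩
    · obtain ⟨j, hj1, hj2⟩ := ih (x ^ 2) (by rw [← pow_mul, ← pow_succ']; exact h1)
        (by rwa [pow_two])
      rw [← pow_mul] at hj1 hj2
      exact ⟨2 * j, hj1, hj2⟩

theorem no_pair {P : Type*} [Group P] [Finite P] (hP : IsPGroup 2 P) (γ δ : MulAut P)
    (hcomm : Commute γ δ) (hγ : γ ^ 3 = 1) (hδ : δ ^ 3 = 1) (hfpf : ∀ x, δ x = x → x = 1)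
    (hinv : ∀ w : P, w * w = 1 → γ w = w)
    (hrank : ∀ E : Subgroup P, (∀ a ∈ E, ∀ b ∈ E, a * b = b * a) → (∀ a ∈ E, a * a = 1) →
      Nat.card E ≤ 4) : γ = 1 := by
  by_cases hδ1 : δ = 1
  · ext x
    have : x = 1 := hfpf x (by rw [hδ1]; rfl)
    rw [this, map_one, map_one]
  apply main' hP δ γ hfpf hγ _ hrank
  apply count9 γ δ hcomm hγ hδ hδ1
  intro x hx m hm n hn hmn
  have hx1 : x ≠ 1 := by
    rintro rfl
    exact hx (map_one γ)
  obtain ⟨k, hk⟩ := hP x
  obtain ⟨j, hj1, hj2⟩ := exists_invol_pow k x hk hx1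
  have h1 : m (n (x ^ j)) = x ^ j := by rw [map_pow, map_pow, hmn]
  have h2 : γ (n (x ^ j)) = n (x ^ j) := by
    apply hinv
    rw [← map_mul, hj2, map_one]
  have h3 : m (n (x ^ j)) = n (x ^ j) := by
    have h4 : γ ∈ MulAction.stabilizer (MulAut P) (n (x ^ j)) := h2
    have h5 : Subgroup.zpowers γ ≤ MulAction.stabilizer (MulAut P) (n (x ^ j)) := by
      rw [Subgroup.zpowers_le]
      exact h4
    exact h5 hm
  rw [h3] at h1
  have hn1 : n = 1 := eq_one_of_fix δ hδ n hn (x ^ j) h1 (fun h => hj1 (hfpf _ h))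
  rw [hn1] at hmn
  exact ⟨eq_one_of_fix γ hγ m hm x hmn hx, hn1⟩

theorem four_le_card {G : Type*} [Group G] [Finite G] (Y : Subgroup G) (hY2 : ∀ y ∈ Y, y * y = 1)
    (hY1 : Y ≠ ⊥) (e : G) (he : ∀ y ∈ Y, e * y * e⁻¹ ∈ Y) (hfpf : ∀ y ∈ Y, e * y * e⁻¹ = y → y = 1) :
    4 ≤ Nat.card Y := by
  classical
  obtain ⟨y, hy, hy1⟩ : ∃ y ∈ Y, y ≠ 1 := by
    obtain ⟨y, hy⟩ := Subgroup.ne_bot_iff_exists_ne_one.1 hY1
    exact ⟨(y : G), y.2, fun h => hy (Subtype.ext h)⟩
  have h1 : e * y * e⁻¹ ≠ y := fun h => hy1 (hfpf y hy h)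
  have h2 : e * y * e⁻¹ ≠ 1 := by
    intro h
    apply hy1
    have : y = e⁻¹ * (e * y * e⁻¹) * e := by group
    rw [this, h]
    group
  have h3 : y * (e * y * e⁻¹) ≠ 1 := by
    intro h
    apply h1
    calc e * y * e⁻¹ = (y * y) * (e * y * e⁻¹) := by rw [hY2 y hy, one_mul]
      _ = y * (y * (e * y * e⁻¹)) := by group
      _ = y := by rw [h, mul_one]
  have hcard : ({1, y, e * y * e⁻¹, y * (e * y * e⁻¹)} : Finset G).card = 4 := by
    rw [Finset.card_insert_of_notMem, Finset.card_insert_of_notMem,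
      Finset.card_insert_of_notMem, Finset.card_singleton]
    all_goals simp only [Finset.mem_insert, Finset.mem_singleton, not_or]
    · intro h
      apply hy1
      have : 1 * (e * y * e⁻¹) = y * (e * y * e⁻¹) := by rw [one_mul]; exact h
      exact (mul_right_cancel this).symm
    · refine ⟨h1.symm, ?_⟩
      intro h
      apply h2
      have : y * 1 = y * (e * y * e⁻¹) := by rw [mul_one]; exact h
      exact (mul_left_cancel this).symm
    · exact ⟨hy1.symm, h2.symm, h3.symm⟩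
  have hsub : (({1, y, e * y * e⁻¹, y * (e * y * e⁻¹)} : Finset G) : Set G) ⊆ (Y : Set G) := by
    intro w hw
    simp only [Finset.coe_insert, Finset.coe_singleton, Set.mem_insert_iff,
      Set.mem_singleton_iff] at hw
    rcases hw with rfl | rfl | rfl | rfl
    · exact Y.one_mem
    · exact hy
    · exact he y hy
    · exact Y.mul_mem hy (he y hy)
  have h5 := Set.ncard_le_ncard hsub (Set.toFinite _)
  rw [Set.ncard_coe_finset, hcard] at h5
  have h6 : Nat.card Y = (Y : Set G).ncard := Nat.card_coe_set_eq _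
  omega

theorem three_dvd {P : Type*} [Group P] [Finite P] (γ : MulAut P) (hγ : γ ^ 3 = 1)
    (B : Subgroup P) (hB : ∀ x, x ∈ B → γ x ∈ B) :
    ∃ m, Nat.card B = Nat.card (B ⊓ fx γ : Subgroup P) + 3 * m := by
  have h1 : 3 ∣ Nat.card {x // x ∈ B ∧ γ x ≠ x} := by
    by_cases hγ1 : γ = 1
    · have : IsEmpty {x // x ∈ B ∧ γ x ≠ x} := by
        constructor
        rintro ⟨x, _, hx⟩
        apply hx
        rw [hγ1]
        rfl
      simp
    have hcard : Nat.card (Subgroup.zpowers γ) = 3 := by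
      rw [Nat.card_zpowers, orderOf_eq_prime hγ hγ1]
    rw [← hcard]
    have hBz : ∀ a ∈ Subgroup.zpowers γ, ∀ x ∈ B, a x ∈ B := by
      intro a ha
      rw [← mem_powers_iff_mem_zpowers] at ha
      obtain ⟨i, rfl⟩ := ha
      change ∀ x ∈ B, (γ ^ i) x ∈ B
      induction i with
      | zero => intro x hx; simpa using hx
      | succ i ih =>
        intro x hx
        rw [pow_succ', MulAut.mul_apply]
        exact hB _ (ih x hx)
    apply dvd_card_of_free (A := Subgroup.zpowers γ) (X := P) (fun x => x ∈ B ∧ γ x ≠ x)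
    · rintro ⟨a, ha⟩ x ⟨hx1, hx2⟩
      refine ⟨hBz a ha x hx1, ?_⟩
      intro h
      apply hx2
      change γ (a x) = a x at h
      obtain ⟨i, rfl⟩ := Subgroup.mem_zpowers_iff.1 ha
      have c1 : γ * γ ^ i = γ ^ i * γ := ((Commute.refl γ).zpow_right i).eq
      have e2 := congrArg (fun f : MulAut P => f x) c1
      simp only [MulAut.mul_apply] at e2
      rw [h] at e2
      exact (γ ^ i).injective e2.symm
    · rintro ⟨a, ha⟩ x ⟨_, hx2⟩ hax
      exact Subtype.ext (eq_one_of_fix γ hγ a ha x hax hx2)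
  obtain ⟨m, hm⟩ := h1
  refine ⟨m, ?_⟩
  have h2 : ((B : Set P) \ ((B ⊓ fx γ : Subgroup P) : Set P)).ncard
      + ((B ⊓ fx γ : Subgroup P) : Set P).ncard = (B : Set P).ncard :=
    Set.ncard_sdiff_add_ncard_of_subset (by
      intro x hx
      exact hx.1) (Set.toFinite _)
  have h3 : ((B : Set P) \ ((B ⊓ fx γ : Subgroup P) : Set P)) = {x | x ∈ B ∧ γ x ≠ x} := by
    ext x
    simp only [Set.mem_sdiff, SetLike.mem_coe, Subgroup.mem_inf, mem_fx, Set.mem_ofPred_eq]
    tauto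
  rw [h3] at h2
  have h4 : Nat.card {x // x ∈ B ∧ γ x ≠ x} = {x | x ∈ B ∧ γ x ≠ x}.ncard := by
    rw [← Nat.card_coe_set_eq]
    rfl
  rw [← h4, hm] at h2
  have h5 : Nat.card B = (B : Set P).ncard := (Nat.card_coe_set_eq (B : Set P))
  have h6 : Nat.card (B ⊓ fx γ : Subgroup P) = ((B ⊓ fx γ : Subgroup P) : Set P).ncard :=
    (Nat.card_coe_set_eq ((B ⊓ fx γ : Subgroup P) : Set P))
  omega

end Cfsg.Agent.Lib.Helper70.Rank2
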