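import Mathlib
import Cfsg.Agent.Lib.Helper70.Frobenius
import Cfsg.Agent.Lib.Helper3.NormalSeries
import Cfsg.Agent.Lib.Helper67.PGroupAux
import Cfsg.Agent.S3977
import Cfsg.Agent.S0126

set_option autoImplicit false
open MulAction
universe u

namespace Cfsg.Agent.Lib.Helper70

/-- A normal subgroup of order `p ^ 2` of a `p`-group lies in the second centre. -/
theorem commutator_central_of_normal_card_sq {P : Type*} [Group P] [Finite P] {p : ℕ}
    [Fact p.Prime] (hP : IsPGroup p P) (E : Subgroup P) [hE : E.Normal] (hcard : Nat.card E = p ^ 2)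
    (e : P) (he : e ∈ E) (x : P) : e * x * e⁻¹ * x⁻¹ ∈ Subgroup.center P := by
  have hp : p.Prime := Fact.out
  have hne : E ≠ ⊥ := by
    rintro rfl
    rw [Subgroup.card_bot] at hcard
    have := Nat.one_lt_pow (n := 2) (by norm_num) hp.one_lt
    omega
  obtain ⟨z, hzE, hzc, hzo⟩ := Cfsg.Agent.Lib.Helper3.exists_central_order_p hP E hne
  set Z := Subgroup.zpowers z with hZ
  have hZc : Z ≤ Subgroup.center P := by rw [hZ, Subgroup.zpowers_le]; exact hzc
  have hZE : Z ≤ E := by rw [hZ, Subgroup.zpowers_le]; exact hzE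
  have hZn : Z.Normal := normal_of_le_center Z hZc
  have hZcard : Nat.card Z = p := by rw [hZ, Nat.card_zpowers, hzo]
  set E' := E.map (QuotientGroup.mk' Z) with hE'
  have hE'n : E'.Normal := hE.map _ (QuotientGroup.mk'_surjective Z)
  have hcomap : E'.comap (QuotientGroup.mk' Z) = E := by
    rw [hE', Subgroup.comap_map_eq, QuotientGroup.ker_mk']
    exact sup_eq_left.mpr hZE
  have hE'card : Nat.card E' = p := by
    have h1 := Cfsg.Agent.Lib.Helper3.card_comap_mk' Z E'
    rw [hcomap, hcard, hZcard, pow_two] at h1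
    exact (Nat.eq_of_mul_eq_mul_right hp.pos h1).symm
  have hPq : IsPGroup p (P ⧸ Z) := hP.to_quotient Z
  have hcen := Cfsg.Agent.Lib.Helper67.le_center_of_normal_card_eq hPq E' hE'card
  have h1 : (QuotientGroup.mk' Z e) ∈ Subgroup.center (P ⧸ Z) :=
    hcen (Subgroup.mem_map_of_mem _ he)
  have h2 := Subgroup.mem_center_iff.mp h1 (QuotientGroup.mk' Z x)
  apply hZc
  rw [← QuotientGroup.eq_one_iff]
  have h3 : ((e * x * e⁻¹ * x⁻¹ : P) : P ⧸ Z) =
      QuotientGroup.mk' Z e * QuotientGroup.mk' Z x * (QuotientGroup.mk' Z e)⁻¹ *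
        (QuotientGroup.mk' Z x)⁻¹ := rfl
  rw [h3, ← h2]
  group

theorem mul_pow_prime_of_normal_card_sq {P : Type*} [Group P] [Finite P] {p : ℕ}
    [Fact p.Prime] (hodd : p ≠ 2) (hP : IsPGroup p P) (E : Subgroup P) [hE : E.Normal]
    (hcard : Nat.card E = p ^ 2) (hexp : ∀ a ∈ E, a ^ p = 1)
    (e : P) (he : e ∈ E) (x : P) : (x * e) ^ p = x ^ p := by
  have hp : p.Prime := Fact.out
  set c := e * x * e⁻¹ * x⁻¹ with hc
  have hcc : c ∈ Subgroup.center P := commutator_central_of_normal_card_sq hP E hcard e he x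
  have hcE : c ∈ E := by
    have h1 : x * e⁻¹ * x⁻¹ ∈ E := hE.conj_mem _ (E.inv_mem he) x
    have : c = e * (x * e⁻¹ * x⁻¹) := by rw [hc]; group
    rw [this]
    exact E.mul_mem he h1
  have hcomm : ∀ g : P, Commute c g := fun g => ((Subgroup.mem_center_iff.mp hcc) g).symm
  have hyx : e * x = c * (x * e) := by rw [hc]; group
  rw [Cfsg.Agent.S3977.mul_pow_central hcomm hyx p, hexp e he, mul_one]
  have hdvd : p ∣ p.choose 2 := hp.dvd_choose_self (by norm_num) (by
    have := hp.two_le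
    omega)
  obtain ⟨k, hk⟩ := hdvd
  rw [hk, pow_mul, hexp c hcE, one_pow, one_mul]

theorem dvd_card_of_forall_fiber {α β : Type*} [Finite α] (f : α → β) (d : ℕ)
    (h : ∀ a, d ∣ Nat.card {a' // f a' = f a}) : d ∣ Nat.card α := by
  classical
  let f' : α → Set.range f := fun a => ⟨f a, a, rfl⟩
  have : Fintype (Set.range f) := Fintype.ofFinite _
  rw [Nat.card_congr (Equiv.sigmaFiberEquiv f').symm, Nat.card_sigma]
  apply Finset.dvd_sum
  rintro ⟨_, a, rfl⟩ _
  have := h a
  refine this.trans (dvd_of_eq (Nat.card_congr (Equiv.subtypeEquivRight ?_)))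
  intro a'
  exact ⟨fun h => Subtype.ext h, fun h => congrArg Subtype.val h⟩

theorem card_orderOf_mul_coprime {G : Type*} [Group G] {a b : ℕ} (hab : Nat.Coprime a b)
    (ha : 0 < a) (hb0 : 0 < b) :
    Nat.card {x : G // orderOf x = a * b} =
      Nat.card {yz : G × G // orderOf yz.1 = a ∧ Commute yz.1 yz.2 ∧ orderOf yz.2 = b} := by
  set s : ℤ := Nat.gcdA a b with hs
  set t : ℤ := Nat.gcdB a b with ht
  have hb : (a : ℤ) * s + b * t = 1 := by
    have := Nat.gcd_eq_gcd_ab a b
    rw [hab] at this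
    simpa using this.symm
  have key1 : ∀ x : G, x ^ (a * b) = 1 → (x ^ ((b : ℤ) * t)) ^ a = 1 := by
    intro x hx
    rw [← zpow_natCast, ← zpow_mul, show (b : ℤ) * t * a = ((a * b : ℕ) : ℤ) * t by push_cast; ring,
      zpow_mul, zpow_natCast, hx, one_zpow]
  have key2 : ∀ x : G, x ^ (a * b) = 1 → (x ^ ((a : ℤ) * s)) ^ b = 1 := by
    intro x hx
    rw [← zpow_natCast, ← zpow_mul, show (a : ℤ) * s * b = ((a * b : ℕ) : ℤ) * s by push_cast; ring,
      zpow_mul, zpow_natCast, hx, one_zpow]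
  have key3 : ∀ x : G, x ^ ((b : ℤ) * t) * x ^ ((a : ℤ) * s) = x := by
    intro x
    rw [← zpow_add, add_comm, hb, zpow_one]
  have key4 : ∀ y z : G, Commute y z → y ^ a = 1 → z ^ b = 1 → (y * z) ^ ((b : ℤ) * t) = y := by
    intro y z hc hy hz
    rw [hc.mul_zpow, zpow_mul z, zpow_natCast, hz, one_zpow, mul_one,
      show (b : ℤ) * t = 1 - a * s by linarith, zpow_sub, zpow_one, zpow_mul, zpow_natCast, hy,
      one_zpow, inv_one, mul_one]
  have key5 : ∀ y z : G, Commute y z → y ^ a = 1 → z ^ b = 1 → (y * z) ^ ((a : ℤ) * s) = z := by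
    intro y z hc hy hz
    rw [hc.mul_zpow, zpow_mul y, zpow_natCast, hy, one_zpow, one_mul,
      show (a : ℤ) * s = 1 - b * t by linarith, zpow_sub, zpow_one, zpow_mul, zpow_natCast, hz,
      one_zpow, inv_one, mul_one]
  have key6 : ∀ y z : G, Commute y z → y ^ a = 1 → z ^ b = 1 → orderOf (y * z) = a * b →
      orderOf y = a ∧ orderOf z = b := by
    intro y z hc hy hz hyz
    have h1 : orderOf y ∣ a := orderOf_dvd_of_pow_eq_one hy
    have h2 : orderOf z ∣ b := orderOf_dvd_of_pow_eq_one hz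
    have hcop : Nat.Coprime (orderOf y) (orderOf z) := Nat.Coprime.of_dvd h1 h2 hab
    have h3 := hc.orderOf_mul_eq_mul_orderOf_of_coprime hcop
    rw [hyz] at h3
    have h4 := Nat.le_of_dvd ha h1
    have h5 := Nat.le_of_dvd hb0 h2
    constructor
    · by_contra hne
      have : orderOf y < a := lt_of_le_of_ne h4 hne
      have := Nat.mul_lt_mul_of_lt_of_le this h5 hb0
      omega
    · by_contra hne
      have : orderOf z < b := lt_of_le_of_ne h5 hne
      have := Nat.mul_lt_mul_of_le_of_lt h4 this ha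
      omega
  apply Nat.card_congr
  exact
    { toFun := fun x => ⟨(x.1 ^ ((b : ℤ) * t), x.1 ^ ((a : ℤ) * s)), by
        have hx : x.1 ^ (a * b) = 1 := orderOf_dvd_iff_pow_eq_one.mp (dvd_of_eq x.2)
        have hc : Commute (x.1 ^ ((b : ℤ) * t)) (x.1 ^ ((a : ℤ) * s)) :=
          (Commute.refl x.1).zpow_zpow _ _
        have := key6 _ _ hc (key1 x.1 hx) (key2 x.1 hx) (by rw [key3]; exact x.2)
        exact ⟨this.1, hc, this.2⟩⟩
      invFun := fun w => ⟨w.1.1 * w.1.2, by
        obtain ⟨⟨y, z⟩, h1, h2, h3⟩ := w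
        change orderOf (y * z) = a * b
        simp only at h1 h2 h3
        rw [h2.orderOf_mul_eq_mul_orderOf_of_coprime (by rw [h1, h3]; exact hab), h1, h3]⟩
      left_inv := fun x => Subtype.ext (key3 x.1)
      right_inv := fun w => by
        obtain ⟨⟨y, z⟩, h1, h2, h3⟩ := w
        simp only at h1 h2 h3
        have hy : y ^ a = 1 := by rw [← h1]; exact pow_orderOf_eq_one _
        have hz : z ^ b = 1 := by rw [← h3]; exact pow_orderOf_eq_one _
        exact Subtype.ext (Prod.ext (key4 y z h2 hy hz) (key5 y z h2 hy hz)) }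

theorem dvd_card_pairs' {G : Type*} [Group G] [Finite G] (Q T : G → Prop)
    (hQ : ∀ g y : G, Q y → Q (g * y * g⁻¹)) (hT : ∀ g y : G, T y → T (g * y * g⁻¹)) (k : ℕ)
    (H : ∀ y : G, Q y → k ∣ (Subgroup.centralizer ({y} : Set G)).index *
      Nat.card {z : G // Commute y z ∧ T z}) :
    k ∣ Nat.card {yz : G × G // Q yz.1 ∧ Commute yz.1 yz.2 ∧ T yz.2} := by
  classical
  let Y := conjSub Q hQ
  have : Fintype Y := Fintype.ofFinite _
  let e : {yz : G × G // Q yz.1 ∧ Commute yz.1 yz.2 ∧ T yz.2} ≃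
      Σ y : Y, {z : G // Commute (y : G) z ∧ T z} :=
    { toFun := fun w => ⟨⟨w.1.1, w.2.1⟩, ⟨w.1.2, w.2.2⟩⟩
      invFun := fun w => ⟨(w.1.1, w.2.1), ⟨w.1.2, w.2.2⟩⟩
      left_inv := fun w => rfl
      right_inv := fun w => rfl }
  rw [Nat.card_congr e, Nat.card_sigma]
  apply dvd_sum_of_orbit (G := ConjAct G)
  · intro g y
    apply Nat.card_congr
    let g' : G := ConjAct.ofConjAct g
    have hgy : ((g • y : Y) : G) = g' * y * g'⁻¹ := rfl
    exact
      { toFun := fun z => ⟨g'⁻¹ * z.1 * g', by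
          obtain ⟨z, hz1, hz2⟩ := z
          rw [hgy] at hz1
          refine ⟨?_, ?_⟩
          · have := hz1.eq
            change (y : G) * (g'⁻¹ * z * g') = g'⁻¹ * z * g' * y
            have h2 : g'⁻¹ * (g' * y * g'⁻¹ * z) * g' = g'⁻¹ * (z * (g' * y * g'⁻¹)) * g' := by
              rw [this]
            simpa [mul_assoc] using h2
          · have := hT g'⁻¹ z hz2
            simpa using this⟩
        invFun := fun z => ⟨g' * z.1 * g'⁻¹, by
          obtain ⟨z, hz1, hz2⟩ := z
          rw [hgy]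
          refine ⟨?_, hT g' z hz2⟩
          have := hz1.eq
          change g' * y * g'⁻¹ * (g' * z * g'⁻¹) = g' * z * g'⁻¹ * (g' * y * g'⁻¹)
          have h2 : g' * ((y : G) * z) * g'⁻¹ = g' * (z * y) * g'⁻¹ := by rw [this]
          simpa [mul_assoc] using h2⟩
        left_inv := fun z => by ext; simp [mul_assoc]
        right_inv := fun z => by ext; simp [mul_assoc] }
  · intro y
    have h1 : Nat.card (orbit (ConjAct G) y) = (Subgroup.centralizer ({(y : G)} : Set G)).index := by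
      rw [Nat.card_coe_set_eq, ← index_stabilizer, SubMulAction.stabilizer_of_subMul,
        ConjAct.stabilizer_eq_centralizer]
      rfl
    rw [h1]
    exact H y y.2


/-- the key step: multiplying by an element of `⟨y ^ p⟩ E`. -/
theorem kulakoff_key {P : Type*} [Group P] [Finite P] {p : ℕ}
    [Fact p.Prime] (hodd : p ≠ 2) (hP : IsPGroup p P) (E : Subgroup P) [hE : E.Normal]
    (hcard : Nat.card E = p ^ 2) (hexp : ∀ a ∈ E, a ^ p = 1) (s : ℕ) (hs : 1 < s)
    (y : P) (hy : orderOf y = p ^ s) (m : P) (hm : m ∈ Subgroup.zpowers (y ^ p) ⊔ E) :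
    orderOf (m * y) = p ^ s ∧ Subgroup.zpowers ((m * y) ^ p) = Subgroup.zpowers (y ^ p) := by
  have hp : p.Prime := Fact.out
  rw [Subgroup.mem_sup_of_normal_right] at hm
  obtain ⟨u, hu, e, he, rfl⟩ := hm
  obtain ⟨k, rfl⟩ := Subgroup.mem_zpowers_iff.mp hu
  have he' : y⁻¹ * e * y ∈ E := by
    have := hE.conj_mem e he y⁻¹
    simpa using this
  have h1 : (y ^ p) ^ k * e * y = y ^ ((p : ℤ) * k + 1) * (y⁻¹ * e * y) := by
    rw [zpow_add, zpow_one, zpow_mul, zpow_natCast]; group
  have h2 : ((y ^ p) ^ k * e * y) ^ p = (y ^ p) ^ ((p : ℤ) * k + 1) := by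
    rw [h1, mul_pow_prime_of_normal_card_sq hodd hP E hcard hexp _ he']
    rw [← zpow_natCast, ← zpow_mul, ← zpow_natCast y p, ← zpow_mul, mul_comm]
  have hyp : orderOf (y ^ p) = p ^ (s - 1) := by
    rw [orderOf_pow_of_dvd hp.ne_zero (by rw [hy]; exact dvd_pow_self p (by omega)), hy]
    obtain ⟨t, rfl⟩ : ∃ t, s = t + 1 := ⟨s - 1, by omega⟩
    rw [pow_succ, Nat.mul_div_cancel _ hp.pos]; simp
  have h3 : Subgroup.zpowers ((y ^ p) ^ ((p : ℤ) * k + 1)) = Subgroup.zpowers (y ^ p) := by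
    apply le_antisymm
    · rw [Subgroup.zpowers_le]
      exact Subgroup.zpow_mem_zpowers _ _
    · rw [Subgroup.zpowers_le]
      have hcop : IsCoprime ((p : ℤ) * k + 1) ((p : ℤ) ^ (s - 1)) :=
        IsCoprime.pow_right ⟨1, -k, by ring⟩
      obtain ⟨a, b, hab⟩ := hcop
      rw [Subgroup.mem_zpowers_iff]
      refine ⟨a, ?_⟩
      have h4 : (y ^ p) ^ ((p : ℤ) ^ (s - 1)) = 1 := by
        have := pow_orderOf_eq_one (y ^ p)
        rw [hyp] at this
        have h5 : ((p : ℤ) ^ (s - 1)) = ((p ^ (s - 1) : ℕ) : ℤ) := by push_cast; rfl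
        rw [h5, zpow_natCast, this]
      calc ((y ^ p) ^ ((p : ℤ) * k + 1)) ^ a = (y ^ p) ^ (a * ((p : ℤ) * k + 1)) := by
            rw [← zpow_mul, mul_comm]
        _ = (y ^ p) ^ (1 - b * (p : ℤ) ^ (s - 1)) := by congr 1; linarith
        _ = y ^ p := by
            rw [zpow_sub, zpow_one, mul_comm b, zpow_mul, h4, one_zpow, inv_one, mul_one]
  refine ⟨?_, by rw [h2, h3]⟩
  set w := (y ^ p) ^ k * e * y with hw
  have hwp : orderOf (w ^ p) = p ^ (s - 1) := by
    rw [h2, ← Nat.card_zpowers, h3, Nat.card_zpowers, hyp]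
  obtain ⟨t, ht⟩ := (IsPGroup.iff_orderOf.mp hP) w
  rcases Nat.eq_zero_or_pos t with rfl | htpos
  · rw [pow_zero, orderOf_eq_one_iff] at ht
    rw [ht, one_pow, orderOf_one] at hwp
    have := Nat.one_lt_pow (n := s - 1) (by omega) hp.one_lt
    omega
  · have h5 : orderOf (w ^ p) = p ^ (t - 1) := by
      rw [orderOf_pow_of_dvd hp.ne_zero (by rw [ht]; exact dvd_pow_self p (by omega)), ht]
      obtain ⟨t', rfl⟩ : ∃ t', t = t' + 1 := ⟨t - 1, by omega⟩
      rw [pow_succ, Nat.mul_div_cancel _ hp.pos]; simp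
    rw [hwp] at h5
    have := Nat.pow_right_injective hp.two_le h5
    rw [ht]
    congr 1
    omega

theorem pow_dvd_card_sup {P : Type*} [Group P] [Finite P] {p : ℕ}
    [Fact p.Prime] (hP : IsPGroup p P) (E : Subgroup P)
    (hcard : Nat.card E = p ^ 2) (hexp : ∀ a ∈ E, a ^ p = 1) (s : ℕ) (hs : 1 ≤ s)
    (u : P) (hu : orderOf u = p ^ (s - 1)) : p ^ s ∣ Nat.card ↥(Subgroup.zpowers u ⊔ E) := by
  have hp : p.Prime := Fact.out
  obtain ⟨j, hj⟩ := (IsPGroup.iff_card.mp (hP.to_subgroup (Subgroup.zpowers u ⊔ E)))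
  rw [hj]
  apply pow_dvd_pow
  by_contra hlt
  have hle : Nat.card ↥(Subgroup.zpowers u ⊔ E) ≤ Nat.card (Subgroup.zpowers u) := by
    rw [hj, Nat.card_zpowers, hu]
    exact Nat.pow_le_pow_right hp.pos (by omega)
  have heq : Subgroup.zpowers u = Subgroup.zpowers u ⊔ E :=
    Subgroup.eq_of_le_of_card_ge le_sup_left hle
  have hEle : E ≤ Subgroup.zpowers u := by rw [heq]; exact le_sup_right
  have hcyc : IsCyclic E := by
    have : IsCyclic (E.subgroupOf (Subgroup.zpowers u)) := inferInstance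
    exact (Subgroup.subgroupOfEquivOfLe hEle).isCyclic.mp this
  obtain ⟨g, hg⟩ := hcyc.exists_generator
  have h1 : orderOf g = Nat.card E := orderOf_eq_card_of_forall_mem_zpowers hg
  have h2 : g ^ p = 1 := Subtype.ext (by simpa using hexp g g.2)
  have h3 := Nat.le_of_dvd hp.pos (orderOf_dvd_of_pow_eq_one h2)
  rw [h1, hcard] at h3
  have : p < p ^ 2 := by nlinarith [hp.one_lt]
  omega

/-- Miller/Kulakoff: in a noncyclic `p`-group, `p` odd, the number of elements of order `p ^ s`,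
`s ≥ 2`, is a multiple of `p ^ s`. -/
theorem kulakoff_pgroup {P : Type*} [Group P] [Finite P] {p : ℕ}
    [Fact p.Prime] (hodd : p ≠ 2) (hP : IsPGroup p P) (hnc : ¬ IsCyclic P) (s : ℕ) (hs : 1 < s) :
    p ^ s ∣ Nat.card {y : P // orderOf y = p ^ s} := by
  have hp : p.Prime := Fact.out
  obtain ⟨E, hE, hEel, hcard⟩ := Cfsg.Agent.S0126.result hodd hP hnc
  have hexp : ∀ a ∈ E, a ^ p = 1 := hEel.2
  let M : P → Subgroup P := fun y => Subgroup.zpowers (y ^ p) ⊔ E
  let f : {y : P // orderOf y = p ^ s} → Set P := fun y => {w | w * (y : P)⁻¹ ∈ M y}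
  apply dvd_card_of_forall_fiber f
  intro y0
  have hyp : orderOf ((y0 : P) ^ p) = p ^ (s - 1) := by
    rw [orderOf_pow_of_dvd hp.ne_zero (by rw [y0.2]; exact dvd_pow_self p (by omega)), y0.2]
    obtain ⟨t, rfl⟩ : ∃ t, s = t + 1 := ⟨s - 1, by omega⟩
    rw [pow_succ, Nat.mul_div_cancel _ hp.pos]; simp
  have h1 : p ^ s ∣ Nat.card ↥(M y0) := pow_dvd_card_sup hP E hcard hexp s (by omega) _ hyp
  refine h1.trans (dvd_of_eq (Nat.card_congr ?_))
  have hkey : ∀ m ∈ M y0, orderOf (m * (y0 : P)) = p ^ s ∧ M (m * y0) = M y0 := by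
    intro m hm
    have := kulakoff_key hodd hP E hcard hexp s hs y0 y0.2 m hm
    exact ⟨this.1, by change Subgroup.zpowers _ ⊔ E = Subgroup.zpowers _ ⊔ E; rw [this.2]⟩
  exact
    { toFun := fun m => ⟨⟨m.1 * y0, (hkey m.1 m.2).1⟩, by
        ext v
        change v * (m.1 * (y0 : P))⁻¹ ∈ M (m.1 * y0) ↔ v * (y0 : P)⁻¹ ∈ M y0
        rw [(hkey m.1 m.2).2]
        have : v * (m.1 * (y0 : P))⁻¹ = v * (y0 : P)⁻¹ * (m.1)⁻¹ := by group
        rw [this]
        exact Subgroup.mul_mem_cancel_right _ ((M y0).inv_mem m.2)⟩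
      invFun := fun w => ⟨w.1.1 * (y0 : P)⁻¹, by
        have h2 : (w.1.1 : P) ∈ f w.1 := by
          change w.1.1 * (w.1.1)⁻¹ ∈ M w.1
          rw [mul_inv_cancel]; exact one_mem _
        rw [w.2] at h2
        exact h2⟩
      left_inv := fun m => by ext; simp
      right_inv := fun w => by ext; simp }

theorem card_orderOf_pred {G : Type*} [Group G] [Finite G] (d : ℕ) (Pr : Subgroup G → Prop) :
    Nat.card {x : G // orderOf x = d ∧ Pr (Subgroup.zpowers x)} =
      Nat.totient d * Nat.card {C : Subgroup G // (IsCyclic C ∧ Nat.card C = d) ∧ Pr C} := by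
  classical
  have : Fintype {C : Subgroup G // (IsCyclic C ∧ Nat.card C = d) ∧ Pr C} := Fintype.ofFinite _
  let f : {x : G // orderOf x = d ∧ Pr (Subgroup.zpowers x)} →
      {C : Subgroup G // (IsCyclic C ∧ Nat.card C = d) ∧ Pr C} :=
    fun x => ⟨Subgroup.zpowers x.1, ⟨inferInstance, by rw [Nat.card_zpowers, x.2.1]⟩, x.2.2⟩
  rw [Nat.card_congr (Equiv.sigmaFiberEquiv f).symm, Nat.card_sigma]
  have hfib : ∀ C : {C : Subgroup G // (IsCyclic C ∧ Nat.card C = d) ∧ Pr C},
      Nat.card {x // f x = C} = Nat.totient d := by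
    rintro ⟨C, ⟨hcyc, hcard⟩, hC⟩
    have e : {x // f x = ⟨C, ⟨hcyc, hcard⟩, hC⟩} ≃ {c : C // orderOf c = d} :=
      { toFun := fun y => ⟨⟨y.1.1, by
          have h : Subgroup.zpowers y.1.1 = C := congrArg Subtype.val y.2
          exact h.le (Subgroup.mem_zpowers (y.1.1 : G))⟩, by
          rw [Subgroup.orderOf_mk]; exact y.1.2.1⟩
        invFun := fun c =>
          have h : Subgroup.zpowers (c.1 : G) = C := by
            apply Subgroup.eq_of_le_of_card_ge
            · rw [Subgroup.zpowers_le]; exact c.1.2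
            · rw [Nat.card_zpowers, Subgroup.orderOf_coe, c.2, hcard]
          ⟨⟨c.1.1, by rw [Subgroup.orderOf_coe]; exact c.2, by rw [h]; exact hC⟩, Subtype.ext h⟩
        left_inv := fun y => rfl
        right_inv := fun c => rfl }
    rw [Nat.card_congr e]
    have : Fintype C := Fintype.ofFinite _
    have h1 := IsCyclic.card_orderOf_eq_totient (α := C) (d := d)
      (by rw [← Nat.card_eq_fintype_card, hcard])
    rw [Nat.card_eq_fintype_card, Fintype.card_subtype, h1]
  rw [Finset.sum_congr rfl (fun C _ => hfib C), Finset.sum_const, Finset.card_univ, smul_eq_mul,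
    ← Nat.card_eq_fintype_card, mul_comm]

/-- Conjugation action of a subgroup on an invariant family of subgroups. -/
@[instance_reducible] def conjActOn {H : Type*} [Group H] (S : Subgroup H) (Pr : Subgroup H → Prop)
    (hPr : ∀ g ∈ S, ∀ C, Pr C → Pr (C.map (MulAut.conj g).toMonoidHom)) :
    MulAction S {C : Subgroup H // Pr C} where
  smul g C := ⟨C.1.map (MulAut.conj (g : H)).toMonoidHom, hPr g g.2 C.1 C.2⟩
  one_smul C := Subtype.ext (by
    change C.1.map (MulAut.conj ((1 : S) : H)).toMonoidHom = C.1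
    ext x
    simp)
  mul_smul g h C := Subtype.ext (by
    change C.1.map (MulAut.conj ((g * h : S) : H)).toMonoidHom =
      (C.1.map (MulAut.conj (h : H)).toMonoidHom).map (MulAut.conj (g : H)).toMonoidHom
    rw [Subgroup.map_map]
    congr 1
    ext x
    simp)

theorem prime_dvd_card_not_le_sylow {H : Type*} [Group H] [Finite H] {p : ℕ} [Fact p.Prime]
    (S : Sylow p H) (s : ℕ) :
    p ∣ Nat.card {C : Subgroup H // (IsCyclic C ∧ Nat.card C = p ^ s) ∧ ¬ C ≤ (S : Subgroup H)} := by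
  have hinv : ∀ g ∈ (S : Subgroup H), ∀ C : Subgroup H,
      ((IsCyclic C ∧ Nat.card C = p ^ s) ∧ ¬ C ≤ (S : Subgroup H)) →
      ((IsCyclic (C.map (MulAut.conj g).toMonoidHom) ∧
        Nat.card (C.map (MulAut.conj g).toMonoidHom) = p ^ s) ∧
        ¬ C.map (MulAut.conj g).toMonoidHom ≤ (S : Subgroup H)) := by
    rintro g hg C ⟨⟨h1, h2⟩, h3⟩
    have e := C.equivMapOfInjective (MulAut.conj g).toMonoidHom (MulAut.conj g).injective
    refine ⟨⟨e.isCyclic.mp h1, by rw [← Nat.card_congr e.toEquiv, h2]⟩, ?_⟩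
    intro hle
    apply h3
    intro x hx
    have h4 : g * x * g⁻¹ ∈ (S : Subgroup H) := hle ⟨x, hx, rfl⟩
    have h5 := (S : Subgroup H).mul_mem ((S : Subgroup H).mul_mem ((S : Subgroup H).inv_mem hg) h4) hg
    simpa [mul_assoc] using h5
  let _ := conjActOn (S : Subgroup H) _ hinv
  have h1 := S.2.card_modEq_card_fixedPoints
    {C : Subgroup H // (IsCyclic C ∧ Nat.card C = p ^ s) ∧ ¬ C ≤ (S : Subgroup H)}
  have h2 : IsEmpty (fixedPoints (S : Subgroup H)
      {C : Subgroup H // (IsCyclic C ∧ Nat.card C = p ^ s) ∧ ¬ C ≤ (S : Subgroup H)}) := by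
    constructor
    rintro ⟨⟨C, ⟨hc1, hc2⟩, hc3⟩, hfix⟩
    apply hc3
    have hCp : IsPGroup p C := IsPGroup.of_card hc2
    have hnorm : (S : Subgroup H) ≤ Subgroup.normalizer (C : Set H) := by
      intro g hg
      have h3 : C.map (MulAut.conj g).toMonoidHom = C :=
        congrArg Subtype.val (hfix ⟨g, hg⟩)
      have h3' : C.map (MulAut.conj g⁻¹).toMonoidHom = C :=
        congrArg Subtype.val (hfix ⟨g⁻¹, (S : Subgroup H).inv_mem hg⟩)
      rw [Subgroup.mem_normalizer_iff]
      intro x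
      constructor
      · intro hx
        exact h3.le ⟨x, hx, rfl⟩
      · intro hx
        have := h3'.le ⟨_, hx, rfl⟩
        simpa [mul_assoc] using this
    have hsup : IsPGroup p (C ⊔ (S : Subgroup H) : Subgroup H) :=
      IsPGroup.to_sup_of_normal_left' hCp S.2 hnorm
    have := S.is_maximal' hsup le_sup_right
    rw [← this]
    exact le_sup_left
  have h3 : Nat.card (fixedPoints (S : Subgroup H)
      {C : Subgroup H // (IsCyclic C ∧ Nat.card C = p ^ s) ∧ ¬ C ≤ (S : Subgroup H)}) = 0 :=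
    Nat.card_of_isEmpty
  rw [h3] at h1
  exact (Nat.modEq_zero_iff_dvd).mp h1

/-- Miller: if the Sylow `p`-subgroups are not cyclic, `p` odd, the number of elements of order
`p ^ s`, `s ≥ 2`, is a multiple of `p ^ s`. -/
theorem kulakoff_group {H : Type*} [Group H] [Finite H] {p : ℕ}
    [Fact p.Prime] (hodd : p ≠ 2) (S : Sylow p H) (hnc : ¬ IsCyclic (S : Subgroup H)) (s : ℕ)
    (hs : 1 < s) : p ^ s ∣ Nat.card {y : H // orderOf y = p ^ s} := by
  have hp : p.Prime := Fact.out
  have h1 : Nat.card {y : H // orderOf y = p ^ s} =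
      Nat.card {y : H // orderOf y = p ^ s ∧ y ∈ (S : Subgroup H)} +
      Nat.card {y : H // orderOf y = p ^ s ∧ ¬ y ∈ (S : Subgroup H)} := by
    classical
    have := Fintype.ofFinite H
    simp only [Nat.card_eq_fintype_card, Fintype.card_subtype]
    rw [← Finset.filter_filter, ← Finset.filter_filter]
    exact (Finset.card_filter_add_card_filter_not _).symm
  rw [h1]
  apply Nat.dvd_add
  · have h2 := kulakoff_pgroup hodd S.2 hnc s hs
    refine h2.trans (dvd_of_eq (Nat.card_congr ?_))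
    exact
      { toFun := fun y => ⟨y.1.1, by rw [Subgroup.orderOf_coe]; exact y.2, y.1.2⟩
        invFun := fun y => ⟨⟨y.1, y.2.2⟩, by rw [Subgroup.orderOf_mk]; exact y.2.1⟩
        left_inv := fun y => rfl
        right_inv := fun y => rfl }
  · have h2 := card_orderOf_pred (G := H) (p ^ s) (fun C => ¬ C ≤ (S : Subgroup H))
    have h3 : Nat.card {y : H // orderOf y = p ^ s ∧ ¬ y ∈ (S : Subgroup H)} =
        Nat.card {x : H // orderOf x = p ^ s ∧ ¬ Subgroup.zpowers x ≤ (S : Subgroup H)} := by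
      apply Nat.card_congr
      apply Equiv.subtypeEquivRight
      intro x
      rw [Subgroup.zpowers_le]
    rw [h3, h2]
    obtain ⟨t, rfl⟩ : ∃ t, s = t + 1 := ⟨s - 1, by omega⟩
    rw [Nat.totient_prime_pow_succ hp, mul_assoc, pow_succ]
    apply Nat.mul_dvd_mul_left
    exact Dvd.dvd.mul_left (prime_dvd_card_not_le_sylow S (t + 1)) _

/-- If `p` does not divide the index of `C`, a Sylow `p`-subgroup of `C` is isomorphic to one
of `G`. -/
theorem sylow_equiv_of_not_dvd_index {G : Type*} [Group G] [Finite G] {p : ℕ} [Fact p.Prime]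
    (C : Subgroup G) (hC : ¬ p ∣ C.index) (S : Sylow p C) (P : Sylow p G) :
    Nonempty ((S : Subgroup C) ≃* (P : Subgroup G)) := by
  have hp : p.Prime := Fact.out
  have e1 := (S : Subgroup C).equivMapOfInjective C.subtype C.subtype_injective
  have hcard : Nat.card ((S : Subgroup C).map C.subtype) = p ^ (Nat.card G).factorization p := by
    rw [← Nat.card_congr e1.toEquiv, S.card_eq_multiplicity, ← C.card_mul_index,
      Nat.factorization_mul Nat.card_pos.ne' Subgroup.index_ne_zero_of_finite]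
    simp [Nat.factorization_eq_zero_of_not_dvd hC]
  let S' : Sylow p G := Sylow.ofCard _ hcard
  exact ⟨e1.trans (Sylow.equiv S' P)⟩

/-- Miller: `p` odd, Sylow `p`-subgroups not cyclic, `s ≥ 2`, `m` prime to `p`: the number of
elements of order `p ^ s * m` is a multiple of `p ^ s`. -/
theorem miller_dvd {G : Type*} [Group G] [Finite G] (p : ℕ) [Fact p.Prime] (hodd : p ≠ 2)
    (P : Sylow p G) (hP : ¬ IsCyclic ↥(P : Subgroup G)) (s m : ℕ) (hs : 1 < s)
    (hm : Nat.Coprime p m) : p ^ s ∣ Nat.card {g : G // orderOf g = p ^ s * m} := by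
  have hp : p.Prime := Fact.out
  have hm0 : 0 < m := by
    rcases Nat.eq_zero_or_pos m with rfl | h
    · rw [Nat.coprime_zero_right] at hm
      exact absurd hm hp.one_lt.ne'
    · exact h
  rw [mul_comm, card_orderOf_mul_coprime (Nat.Coprime.pow_right s hm.symm) hm0 (pow_pos hp.pos s)]
  apply dvd_card_pairs' (fun y => orderOf y = m) (fun z => orderOf z = p ^ s)
  · intro g y hy
    have : g * y * g⁻¹ = MulAut.conj g y := rfl
    rw [this, MulEquiv.orderOf_eq]; exact hy
  · intro g y hy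
    have : g * y * g⁻¹ = MulAut.conj g y := rfl
    rw [this, MulEquiv.orderOf_eq]; exact hy
  · intro y hy
    set C := Subgroup.centralizer ({y} : Set G) with hC
    have e : {z : G // Commute y z ∧ orderOf z = p ^ s} ≃ {z : C // orderOf z = p ^ s} :=
      { toFun := fun z => ⟨⟨z.1, Subgroup.mem_centralizer_singleton_iff.mpr z.2.1.eq.symm⟩, by
          rw [Subgroup.orderOf_mk]; exact z.2.2⟩
        invFun := fun z => ⟨z.1.1, (Subgroup.mem_centralizer_singleton_iff.mp z.1.2).symm, by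
          rw [Subgroup.orderOf_coe]; exact z.2⟩
        left_inv := fun z => rfl
        right_inv := fun z => rfl }
    rw [Nat.card_congr e]
    obtain ⟨S⟩ : Nonempty (Sylow p C) := inferInstance
    by_cases hS : IsCyclic (S : Subgroup C)
    · have h1 : p ∣ C.index := by
        by_contra hnd
        obtain ⟨e2⟩ := sylow_equiv_of_not_dvd_index C hnd S P
        exact hP (e2.isCyclic.mp hS)
      have h2 : p ^ (s - 1) ∣ Nat.card {z : C // orderOf z = p ^ s} := by
        have h3 := totient_dvd_card_orderOf (G := C) (p ^ s)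
        obtain ⟨t, rfl⟩ : ∃ t, s = t + 1 := ⟨s - 1, by omega⟩
        rw [Nat.totient_prime_pow_succ hp] at h3
        exact (Dvd.intro _ rfl).trans h3
      have h4 : p ^ s = p * p ^ (s - 1) := by
        rw [← pow_succ']; congr 1; omega
      calc p ^ s = p * p ^ (s - 1) := h4
        _ ∣ _ := Nat.mul_dvd_mul h1 h2
    · exact Dvd.dvd.mul_left (kulakoff_group hodd S hS s hs) _

end Cfsg.Agent.Lib.Helper70
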