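import Mathlib
import Cfsg.Agent.Lib.Helper38.ZassA2

set_option autoImplicit false
set_option linter.unusedSectionVars false
set_option linter.unusedVariables false

/-! Rung N of the Zassenhaus ladder (helper61): operator casework for two elements of order 3
in a group acting freely. -/

namespace Cfsg.Agent.Lib.Helper70.Zass

open Cfsg.Agent.Lib.Helper38.Zass

variable {K V H : Type*} [Field K] [AddCommGroup V] [Module K V] [Nontrivial V] [Group H]
  (ρ : H →* Module.End K V) (hfree : ∀ g : H, g ≠ 1 → ∀ v : V, ρ g v = v → v = 0)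

include hfree

theorem cancel {g h : H} (hgh : g ≠ h) {A : Module.End K V} (hA : (ρ g - ρ h) * A = 0) :
    A = 0 := by
  ext v
  by_contra hv
  apply hgh
  apply eq_of_apply_eq ρ hfree (v := A v) hv
  have := congrArg (fun f : Module.End K V => f v) hA
  simp only [Module.End.mul_apply, LinearMap.sub_apply, LinearMap.zero_apply] at this
  exact sub_eq_zero.mp this

theorem cancel_one {g : H} (hg : g ≠ 1) {A : Module.End K V} (hA : (ρ g - 1) * A = 0) :
    A = 0 := by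
  apply cancel ρ hfree hg
  rw [map_one]; exact hA

theorem t_three {g : H} (hg : orderOf g = 3) : ρ g + ρ g⁻¹ = -1 := by
  have h1 : g ≠ 1 := by intro h; rw [h, orderOf_one] at hg; omega
  have h3 : g ^ 3 = 1 := by rw [← hg]; exact pow_orderOf_eq_one g
  have huv := rho_mul_inv ρ g
  have h2 : ρ g * ρ g = ρ g⁻¹ := by
    rw [← map_mul]; congr 1
    apply eq_inv_of_mul_eq_one_left
    rw [← h3]; simp only [pow_succ, pow_zero, one_mul]
  have : (ρ g - 1) * (ρ g + ρ g⁻¹ + 1) = 0 := by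
    calc (ρ g - 1) * (ρ g + ρ g⁻¹ + 1) = (ρ g * ρ g - ρ g⁻¹) + (ρ g * ρ g⁻¹ - 1) := by noncomm_ring
      _ = 0 := by rw [h2, huv]; simp
  have := cancel_one ρ hfree h1 this
  exact eq_neg_of_add_eq_zero_left this

theorem t_five {g : H} (hg : orderOf g = 5) :
    (ρ g + ρ g⁻¹) * (ρ g + ρ g⁻¹) + (ρ g + ρ g⁻¹) - 1 = 0 := by
  have h1 : g ≠ 1 := by intro h; rw [h, orderOf_one] at hg; omega
  have h5 : g ^ 5 = 1 := by rw [← hg]; exact pow_orderOf_eq_one g
  have huv := rho_mul_inv ρ g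
  have hvu := rho_inv_mul ρ g
  have h2 : ρ g * ρ g * ρ g = ρ g⁻¹ * ρ g⁻¹ := by
    rw [← map_mul, ← map_mul, ← map_mul]; congr 1
    have : g * g * g * (g * g) = 1 := by
      rw [← h5]; simp only [pow_succ, pow_zero, one_mul, mul_assoc]
    rw [eq_inv_of_mul_eq_one_left this]; simp
  have : (ρ g - 1) * ((ρ g + ρ g⁻¹) * (ρ g + ρ g⁻¹) + (ρ g + ρ g⁻¹) - 1) = 0 := by
    calc (ρ g - 1) * ((ρ g + ρ g⁻¹) * (ρ g + ρ g⁻¹) + (ρ g + ρ g⁻¹) - 1)
        = (ρ g * ρ g * ρ g - ρ g⁻¹ * ρ g⁻¹) + (ρ g * ρ g⁻¹ - 1) * ρ g⁻¹ + (ρ g * ρ g⁻¹ - 1)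
          + ρ g * (ρ g * ρ g⁻¹ - 1) + ρ g * (ρ g⁻¹ * ρ g - 1) - (ρ g * ρ g⁻¹ - 1)
          - (ρ g⁻¹ * ρ g - 1) := by noncomm_ring
      _ = 0 := by rw [h2, huv, hvu]; simp
  exact cancel_one ρ hfree h1 this

/-- an involution acts as `-1` -/
theorem rho_invol {z : H} (hz : orderOf z = 2) : ρ z = -1 := by
  have h1 : z ≠ 1 := by intro h; rw [h, orderOf_one] at hz; omega
  have h2 : z * z = 1 := by rw [← pow_two, ← hz]; exact pow_orderOf_eq_one z
  exact (sq_eq_one_cases ρ hfree h2).resolve_left h1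

theorem t_six {g : H} (hg : orderOf g = 6) : ρ g + ρ g⁻¹ = 1 ∧ ρ (g ^ 3) = -1 ∧ g ^ 3 ≠ 1 := by
  have h6 : g ^ 6 = 1 := by rw [← hg]; exact pow_orderOf_eq_one g
  have h3 : g ^ 3 ≠ 1 := by
    intro h; have := orderOf_dvd_of_pow_eq_one h; rw [hg] at this; omega
  have h2 : g ^ 2 ≠ 1 := by
    intro h; have := orderOf_dvd_of_pow_eq_one h; rw [hg] at this; omega
  have hz : ρ (g ^ 3) = -1 := by
    refine (sq_eq_one_cases ρ hfree ?_).resolve_left h3
    rw [← pow_add]; exact h6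
  refine ⟨?_, hz, h3⟩
  have hne : g ≠ g ^ 3 := by
    intro h; apply h2
    have : g * g ^ 2 = g * 1 := by rw [mul_one, ← pow_succ']; exact h.symm
    exact mul_left_cancel this
  have huv := rho_mul_inv ρ g
  have hvu := rho_inv_mul ρ g
  have h4 : ρ g * ρ g = - ρ g⁻¹ := by
    have : ρ g * ρ g = ρ (g ^ 3) * ρ g⁻¹ := by
      rw [← map_mul, ← map_mul]; congr 1
      simp only [pow_succ, pow_zero, one_mul, mul_assoc, mul_inv_cancel, mul_one]
    rw [this, hz]; simp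
  have : (ρ g - ρ (g ^ 3)) * (ρ g + ρ g⁻¹ - 1) = 0 := by
    rw [hz]
    calc (ρ g - -1) * (ρ g + ρ g⁻¹ - 1) = (ρ g * ρ g + ρ g⁻¹) + (ρ g * ρ g⁻¹ - 1) := by
          noncomm_ring
      _ = 0 := by rw [h4, huv]; simp
  have := cancel ρ hfree hne this
  exact sub_eq_zero.mp this

theorem t_ten {g : H} (hg : orderOf g = 10) :
    (ρ g + ρ g⁻¹) * (ρ g + ρ g⁻¹) - (ρ g + ρ g⁻¹) - 1 = 0 ∧ ρ (g ^ 5) = -1 ∧ g ^ 5 ≠ 1 := by
  have h10 : g ^ 10 = 1 := by rw [← hg]; exact pow_orderOf_eq_one g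
  have h5 : g ^ 5 ≠ 1 := by
    intro h; have := orderOf_dvd_of_pow_eq_one h; rw [hg] at this; omega
  have h4 : g ^ 4 ≠ 1 := by
    intro h; have := orderOf_dvd_of_pow_eq_one h; rw [hg] at this; omega
  have hz : ρ (g ^ 5) = -1 := by
    refine (sq_eq_one_cases ρ hfree ?_).resolve_left h5
    rw [← pow_add]; exact h10
  refine ⟨?_, hz, h5⟩
  have hne : g ≠ g ^ 5 := by
    intro h; apply h4
    have : g * g ^ 4 = g * 1 := by rw [mul_one, ← pow_succ']; exact h.symm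
    exact mul_left_cancel this
  have huv := rho_mul_inv ρ g
  have hvu := rho_inv_mul ρ g
  have h3 : ρ g * ρ g * ρ g = - (ρ g⁻¹ * ρ g⁻¹) := by
    have : ρ g * ρ g * ρ g = ρ (g ^ 5) * (ρ g⁻¹ * ρ g⁻¹) := by
      rw [← map_mul, ← map_mul, ← map_mul, ← map_mul]; congr 1
      simp only [pow_succ, pow_zero, one_mul, mul_assoc, mul_inv_cancel, mul_one,
        mul_inv_cancel_left]
    rw [this, hz]; simp
  have : (ρ g - ρ (g ^ 5)) * ((ρ g + ρ g⁻¹) * (ρ g + ρ g⁻¹) - (ρ g + ρ g⁻¹) - 1) = 0 := by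
    rw [hz]
    calc (ρ g - -1) * ((ρ g + ρ g⁻¹) * (ρ g + ρ g⁻¹) - (ρ g + ρ g⁻¹) - 1)
        = (ρ g * ρ g * ρ g + ρ g⁻¹ * ρ g⁻¹) + (ρ g * ρ g⁻¹ - 1) * ρ g⁻¹ - (ρ g * ρ g⁻¹ - 1)
          + ρ g * (ρ g * ρ g⁻¹ - 1) + ρ g * (ρ g⁻¹ * ρ g - 1) + (ρ g * ρ g⁻¹ - 1)
          + (ρ g⁻¹ * ρ g - 1) := by noncomm_ring
      _ = 0 := by rw [h3, huv, hvu]; simp
  exact cancel ρ hfree hne this

omit hfree in
theorem order_cases {g : H} (h : g ^ 4 = 1 ∨ g ^ 6 = 1 ∨ g ^ 10 = 1) :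
    orderOf g = 1 ∨ orderOf g = 2 ∨ orderOf g = 3 ∨ orderOf g = 4 ∨ orderOf g = 5 ∨
      orderOf g = 6 ∨ orderOf g = 10 := by
  rcases h with h | h | h
  · have h1 := orderOf_dvd_of_pow_eq_one h
    have h2 := Nat.le_of_dvd (by norm_num) h1
    interval_cases (orderOf g) <;> omega
  · have h1 := orderOf_dvd_of_pow_eq_one h
    have h2 := Nat.le_of_dvd (by norm_num) h1
    interval_cases (orderOf g) <;> omega
  · have h1 := orderOf_dvd_of_pow_eq_one h
    have h2 := Nat.le_of_dvd (by norm_num) h1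
    interval_cases (orderOf g) <;> omega

theorem no_invol {x y : H} (hx : orderOf x = 3) (hy : orderOf y = 3) : orderOf (x * y) ≠ 2 := by
  intro h
  have hz := rho_invol ρ hfree h
  have hc : Commute x y := by
    have : x * y * x = x * (x * y) := by
      apply rho_injective ρ hfree
      rw [map_mul, map_mul ρ x (x * y), hz]; simp
    have h2 : x * (y * x) = x * (x * y) := by rw [← mul_assoc]; exact this
    exact (mul_left_cancel h2).symm
  have h3 : (x * y) ^ 3 = 1 := by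
    rw [hc.mul_pow, ← hx, pow_orderOf_eq_one, hx, ← hy, pow_orderOf_eq_one, one_mul]
  have := orderOf_dvd_of_pow_eq_one h3
  rw [h] at this; omega

theorem t_sum {x y : H} (hx : orderOf x = 3) (hy : orderOf y = 3) :
    (ρ (x * y) + ρ (x * y)⁻¹) + (ρ (x * y⁻¹) + ρ (x * y⁻¹)⁻¹) = 1 := by
  have hX := t_three ρ hfree hx
  have hY := t_three ρ hfree hy
  have : (ρ (x * y) + ρ (x * y)⁻¹) + (ρ (x * y⁻¹) + ρ (x * y⁻¹)⁻¹)
      = ρ x * (ρ y + ρ y⁻¹) + (ρ y + ρ y⁻¹) * ρ x⁻¹ := by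
    rw [mul_inv_rev, mul_inv_rev, inv_inv, map_mul, map_mul, map_mul, map_mul]
    noncomm_ring
  rw [this, hY]
  have : ρ x * (-1) + (-1) * ρ x⁻¹ = - (ρ x + ρ x⁻¹) := by noncomm_ring
  rw [this, hX, neg_neg]

theorem eq_one_of_t_two {g : H} (h : ρ g + ρ g⁻¹ = 2) : g = 1 := by
  by_contra hg
  have huv := rho_mul_inv ρ g
  have h1 : (ρ g - 1) * (ρ g - 1) = 0 := by
    calc (ρ g - 1) * (ρ g - 1) = ρ g * (ρ g + ρ g⁻¹ - 2) - (ρ g * ρ g⁻¹ - 1) := by noncomm_ring
      _ = 0 := by rw [h, huv]; simp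
  have h2 := cancel_one ρ hfree hg h1
  apply hg
  apply rho_injective ρ hfree
  rw [map_one]; exact sub_eq_zero.mp h2

omit hfree in
theorem sq_of_t_zero {g : H} (h : ρ g + ρ g⁻¹ = 0) : ρ (g ^ 2) = -1 := by
  have huv := rho_mul_inv ρ g
  rw [pow_two, map_mul]
  have : ρ g * ρ g = ρ g * (ρ g + ρ g⁻¹) - ρ g * ρ g⁻¹ := by noncomm_ring
  rw [this, h, huv]; simp

omit hfree in
theorem two_eq_zero_of_four (h : (4 : Module.End K V) = 0) : (2 : Module.End K V) = 0 := by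
  obtain ⟨v, hv⟩ := exists_ne (0 : V)
  have h1 : (4 : K) • v = 0 := by
    have := congrArg (fun f : Module.End K V => f v) h
    rw [← map_ofNat (algebraMap K (Module.End K V)) 4] at this
    simpa using this
  have h2 : (4 : K) = 0 := (smul_eq_zero.mp h1).resolve_right hv
  have h3 : (2 : K) = 0 := by
    have : (2 : K) * 2 = 0 := by rw [← h2]; norm_num
    exact mul_self_eq_zero.mp this
  rw [← map_ofNat (algebraMap K (Module.End K V)) 2, h3, map_zero]

/-- characteristic-2 part: two elements of order 3 with both products of order 5 -/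
theorem no_five_five {x y : H} (hx : orderOf x = 3) (hy : orderOf y = 3)
    (h5 : orderOf (x * y) = 5) (h5' : orderOf (x * y⁻¹) = 5) : False := by
  have hsum := t_sum ρ hfree hx hy
  have e1 := t_five ρ hfree h5
  have e2 := t_five ρ hfree h5'
  have hY := t_three ρ hfree hy
  set g := x * y with hg
  set g' := x * y⁻¹ with hg'
  have hT' : ρ g' + ρ g'⁻¹ = 1 - (ρ g + ρ g⁻¹) := by rw [← hsum]; abel
  -- 4 = 0
  have h2R : (2 : Module.End K V) = 0 := by
    apply two_eq_zero_of_four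
    rw [hT'] at e2
    set T := ρ g + ρ g⁻¹ with hT
    have e3 : 4 * T = 2 := by
      have : 4 * T - 2 * 1 = (T * T + T - 1) - ((1 - T) * (1 - T) + (1 - T) - 1) := by
        noncomm_ring
      rw [e1, e2, sub_zero, mul_one] at this
      exact sub_eq_zero.mp this
    have e4 : (4 * T) * (4 * T) + 4 * (4 * T) - 16 * 1 = 16 * (T * T + T - 1) := by noncomm_ring
    rw [e3, e1, mul_one] at e4
    have e5 : (2 : Module.End K V) * 2 + 4 * 2 - 16 = -4 := by norm_num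
    rw [e5, mul_zero] at e4
    exact neg_eq_zero.mp e4
  have hneg : ∀ A : Module.End K V, -A = A := by
    intro A
    have : A + A = 0 := by rw [← two_mul, h2R, zero_mul]
    exact (eq_neg_of_add_eq_zero_left this).symm
  have huv := rho_mul_inv ρ g
  have hvu := rho_inv_mul ρ g
  have hyy : y * y = y⁻¹ := by
    apply eq_inv_of_mul_eq_one_left
    have : y ^ 3 = 1 := by rw [← hy]; exact pow_orderOf_eq_one y
    rw [← this]; simp only [pow_succ, pow_zero, one_mul]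
  have hs : ρ g * ρ g'⁻¹ + ρ g' * ρ g⁻¹ = -1 := by
    have h1 : g * g'⁻¹ = x * y⁻¹ * x⁻¹ := by
      rw [hg, hg', mul_inv_rev, inv_inv, mul_assoc, ← mul_assoc y y, hyy, mul_assoc]
    have h2 : g' * g⁻¹ = x * y * x⁻¹ := by
      rw [hg, hg', mul_inv_rev, mul_assoc, ← mul_assoc y⁻¹ y⁻¹, ← mul_inv_rev, hyy, inv_inv,
        mul_assoc]
    rw [← map_mul, ← map_mul, h1, h2, map_mul, map_mul, map_mul, map_mul]
    have : ρ x * ρ y⁻¹ * ρ x⁻¹ + ρ x * ρ y * ρ x⁻¹ = ρ x * (ρ y + ρ y⁻¹) * ρ x⁻¹ := by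
      noncomm_ring
    rw [this, hY, mul_neg, mul_one, neg_mul, rho_mul_inv]
  have hw : ρ (g * g') + ρ (g * g')⁻¹ = 0 := by
    rw [mul_inv_rev, map_mul ρ g g', map_mul ρ g'⁻¹ g⁻¹]
    have hv' : ρ g'⁻¹ = 1 - (ρ g + ρ g⁻¹) - ρ g' := by rw [← hT']; abel
    rw [hv'] at hs ⊢
    have key : ρ g * ρ g' + (1 - (ρ g + ρ g⁻¹) - ρ g') * ρ g⁻¹ - 2 * (ρ g + ρ g⁻¹)
        = - ((ρ g + ρ g⁻¹) * (ρ g + ρ g⁻¹) + (ρ g + ρ g⁻¹) - 1)
          - (ρ g * (1 - (ρ g + ρ g⁻¹) - ρ g') + ρ g' * ρ g⁻¹ + 1)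
          - (ρ g * ρ g⁻¹ - 1) + (ρ g⁻¹ * ρ g - 1) := by noncomm_ring
    rw [e1, hs, huv, hvu, h2R] at key
    simpa using key
  have hww : (g * g') * (g * g') = 1 := by
    have : g * g' = (g * g')⁻¹ := by
      apply rho_injective ρ hfree
      rw [← hneg (ρ (g * g')⁻¹)]
      exact eq_neg_of_add_eq_zero_left hw
    calc (g * g') * (g * g') = (g * g') * (g * g')⁻¹ := by rw [← this]
      _ = 1 := mul_inv_cancel _
  have hw1 : g * g' = 1 := by
    rcases sq_eq_one_cases ρ hfree hww with h | h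
    · exact h
    · apply rho_injective ρ hfree
      rw [h, hneg, map_one]
  have hg'g : g' = g⁻¹ := eq_inv_of_mul_eq_one_right hw1
  rw [hg'g, inv_inv, add_comm (ρ g⁻¹) (ρ g), ← two_mul, h2R, zero_mul] at hsum
  exact zero_ne_one hsum

theorem N1 (x y : H) (hx : orderOf x = 3) (hy : orderOf y = 3)
    (h1 : (x * y) ^ 4 = 1 ∨ (x * y) ^ 6 = 1 ∨ (x * y) ^ 10 = 1)
    (h2 : (x * y⁻¹) ^ 4 = 1 ∨ (x * y⁻¹) ^ 6 = 1 ∨ (x * y⁻¹) ^ 10 = 1) :
    y = x ∨ y = x⁻¹ ∨ orderOf (x * y) = 4 ∨ orderOf (x * y⁻¹) = 4 ∨ orderOf (x * y) = 10 := by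
  have hy' : orderOf y⁻¹ = 3 := by rw [orderOf_inv]; exact hy
  have hsum := t_sum ρ hfree hx hy
  have hyx : x * y⁻¹ = 1 → y = x := by
    intro h; exact (mul_inv_eq_one.mp h).symm
  rcases order_cases h1 with h | h | h | h | h | h | h
  · right; left
    rw [orderOf_eq_one_iff] at h
    exact eq_inv_of_mul_eq_one_right h
  · exact absurd h (no_invol ρ hfree hx hy)
  · left
    apply hyx
    apply eq_one_of_t_two ρ hfree
    rw [t_three ρ hfree h] at hsum
    have : ρ (x * y⁻¹) + ρ (x * y⁻¹)⁻¹ = (-1 + (ρ (x * y⁻¹) + ρ (x * y⁻¹)⁻¹)) + 1 := by abel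
    rw [this, hsum]; norm_num
  · right; right; left; exact h
  · rcases order_cases h2 with h' | h' | h' | h' | h' | h' | h'
    · left; apply hyx; rwa [orderOf_eq_one_iff] at h'
    · exact absurd h' (no_invol ρ hfree hx hy')
    · exfalso
      rw [t_three ρ hfree h'] at hsum
      have : x * y = 1 := by
        apply eq_one_of_t_two ρ hfree
        have : ρ (x * y) + ρ (x * y)⁻¹ = ((ρ (x * y) + ρ (x * y)⁻¹) + -1) + 1 := by abel
        rw [this, hsum]; norm_num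
      rw [this, orderOf_one] at h; omega
    · right; right; right; left; exact h'
    · exact (no_five_five ρ hfree hx hy h h').elim
    · exfalso
      rw [(t_six ρ hfree h').1] at hsum
      have h0 : ρ (x * y) + ρ (x * y)⁻¹ = 0 := by
        have : ρ (x * y) + ρ (x * y)⁻¹ = ((ρ (x * y) + ρ (x * y)⁻¹) + 1) - 1 := by abel
        rw [this, hsum, sub_self]
      have h4 : (x * y) ^ 4 = 1 := by
        apply rho_injective ρ hfree
        have : (x * y) ^ 4 = (x * y) ^ 2 * (x * y) ^ 2 := by rw [← pow_add]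
        rw [this, map_mul, sq_of_t_zero ρ h0, map_one]; simp
      have := orderOf_dvd_of_pow_eq_one h4
      rw [h] at this; omega
    · exfalso
      obtain ⟨e2, hz, hz1⟩ := t_ten ρ hfree h'
      have e1 := t_five ρ hfree h
      have hT' : ρ (x * y⁻¹) + ρ (x * y⁻¹)⁻¹ = 1 - (ρ (x * y) + ρ (x * y)⁻¹) := by
        rw [← hsum]; abel
      rw [hT'] at e2
      set T := ρ (x * y) + ρ (x * y)⁻¹ with hT
      have e3 : 2 * T = 0 := by
        have : 2 * T = (T * T + T - 1) - ((1 - T) * (1 - T) - (1 - T) - 1) := by noncomm_ring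
        rw [e1, e2, sub_zero] at this
        exact this
      have e4 : (2 * T) * (2 * T) + 2 * (2 * T) - 4 * 1 = 4 * (T * T + T - 1) := by noncomm_ring
      rw [e3, e1, mul_one] at e4
      have h4 : (4 : Module.End K V) = 0 := by simpa using e4
      have h2R := two_eq_zero_of_four h4
      apply hz1
      apply rho_injective ρ hfree
      rw [hz, map_one]
      have : (1 : Module.End K V) + 1 = 0 := by rw [one_add_one_eq_two]; exact h2R
      exact (eq_neg_of_add_eq_zero_left this).symm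
  · right; right; right; left
    obtain ⟨e1, hz, hz1⟩ := t_six ρ hfree h
    rw [e1] at hsum
    have h0 : ρ (x * y⁻¹) + ρ (x * y⁻¹)⁻¹ = 0 := by
      have : ρ (x * y⁻¹) + ρ (x * y⁻¹)⁻¹ = (1 + (ρ (x * y⁻¹) + ρ (x * y⁻¹)⁻¹)) - 1 := by abel
      rw [this, hsum, sub_self]
    have hsq : (x * y⁻¹) ^ 2 = (x * y) ^ 3 := by
      apply rho_injective ρ hfree
      rw [sq_of_t_zero ρ h0, hz]
    have h4 : (x * y⁻¹) ^ 4 = 1 := by
      have : (x * y⁻¹) ^ 4 = (x * y⁻¹) ^ 2 * (x * y⁻¹) ^ 2 := by rw [← pow_add]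
      rw [this, hsq, ← pow_add]
      have := pow_orderOf_eq_one (x * y)
      rw [h] at this; exact this
    have := orderOf_eq_prime_pow (p := 2) (n := 1) (x := x * y⁻¹) (by rw [pow_one, hsq]; exact hz1)
      (by norm_num; exact h4)
    simpa using this
  · right; right; right; right; exact h

end Cfsg.Agent.Lib.Helper70.Zass
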