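import Mathlib
import Cfsg.Agent.Lib.Helper3.NormalSeries
import Cfsg.Agent.Lib.Helper1.PGroup
import Cfsg.Agent.Lib.Helper70.Frobenius

set_option autoImplicit false
universe u

namespace Cfsg.Agent.Lib.Helper70

/-- A `p`-group with two subgroups of order `p` has an elementary abelian subgroup of order `p²`. -/
theorem exists_rank_two_of_two_subgroups {Q : Type*} [Group Q] [Finite Q] {p : ℕ} [Fact p.Prime]
    (hQ : IsPGroup p Q) (H K : Subgroup Q) (hH : Nat.card H = p) (hK : Nat.card K = p)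
    (hne : H ≠ K) :
    ∃ E : Subgroup Q, Nat.card E = p ^ 2 ∧ IsMulCommutative E ∧ ∀ a ∈ E, a ^ p = 1 := by
  have hp : p.Prime := Fact.out
  have htop : (⊤ : Subgroup Q) ≠ ⊥ := by
    intro h
    have h1 : H = ⊥ := le_bot_iff.mp (h ▸ le_top)
    rw [h1, Subgroup.card_bot] at hH
    exact hp.one_lt.ne hH
  obtain ⟨z, -, hzc, hzo⟩ := Cfsg.Agent.Lib.Helper3.exists_central_order_p hQ ⊤ htop
  set Z := Subgroup.zpowers z with hZ
  have hZc : Z ≤ Subgroup.center Q := by rw [hZ, Subgroup.zpowers_le]; exact hzc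
  have hZn : Z.Normal := normal_of_le_center Z hZc
  have hZcard : Nat.card Z = p := by rw [hZ, Nat.card_zpowers, hzo]
  obtain ⟨X, hX, hXZ⟩ : ∃ X : Subgroup Q, Nat.card X = p ∧ X ≠ Z := by
    by_cases h : H = Z
    · exact ⟨K, hK, fun h' => hne (h.trans h'.symm)⟩
    · exact ⟨H, hH, h⟩
  obtain ⟨x, hxX, hxZ⟩ : ∃ x ∈ X, x ∉ Z := by
    by_contra hcon
    push Not at hcon
    exact hXZ (Subgroup.eq_of_le_of_card_ge hcon (by rw [hX, hZcard]))
  have hxp : x ^ p = 1 := by
    have := pow_card_eq_one' (G := X) (x := ⟨x, hxX⟩)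
    rw [hX] at this
    exact congrArg Subtype.val this
  have hcard := Cfsg.Agent.Lib.Helper1.card_sup_zpowers_of_pow_mem hp Z x hxZ (by rw [hxp]; exact one_mem _)
  rw [hZcard, ← pow_two] at hcard
  refine ⟨Z ⊔ Subgroup.zpowers x, hcard, ?_, ?_⟩
  · exact IsPGroup.isMulCommutative_of_card_eq_prime_sq hcard
  · intro a ha
    rw [Subgroup.mem_sup_of_normal_left] at ha
    obtain ⟨u, hu, v, hv, rfl⟩ := ha
    have hcomm : Commute u v := ((Subgroup.mem_center_iff.mp (hZc hu)) v).symm
    obtain ⟨i, rfl⟩ := Subgroup.mem_zpowers_iff.mp hu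
    obtain ⟨j, rfl⟩ := Subgroup.mem_zpowers_iff.mp hv
    have hzp : z ^ p = 1 := by rw [← hzo]; exact pow_orderOf_eq_one z
    rw [hcomm.mul_pow, ← zpow_natCast, ← zpow_mul, mul_comm, zpow_mul, zpow_natCast, hzp, one_zpow,
      ← zpow_natCast, ← zpow_mul, mul_comm, zpow_mul, zpow_natCast, hxp, one_zpow, one_mul]

/-- If all abelian subgroups of order `p²` are conjugate and one of them has exponent `p`, then
every `p`-element has order dividing `p`. -/
theorem pow_prime_eq_one_of_rank_two {G : Type*} [Group G] {p : ℕ} [Fact p.Prime]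
    (hconj : ∀ A B : Subgroup G, IsMulCommutative A → IsMulCommutative B → Nat.card A = p ^ 2 →
      Nat.card B = p ^ 2 → ∃ g : G, B = A.map (MulAut.conj g).toMonoidHom)
    (E' : Subgroup G) (hE'card : Nat.card E' = p ^ 2) (hE'exp : ∀ a ∈ E', a ^ p = 1)
    (x : G) (t : ℕ) (ht : orderOf x = p ^ t) : x ^ p = 1 := by
  have hp : p.Prime := Fact.out
  have hE'comm : IsMulCommutative E' := IsPGroup.isMulCommutative_of_card_eq_prime_sq hE'card
  by_contra hxp
  have ht2 : 2 ≤ t := by
    by_contra hlt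
    apply hxp
    have : orderOf x ∣ p := by
      rw [ht]
      calc p ^ t ∣ p ^ 1 := pow_dvd_pow p (by omega)
        _ = p := pow_one p
    exact orderOf_dvd_iff_pow_eq_one.mp this
  set w := x ^ (p ^ (t - 2)) with hw
  have hwo : orderOf w = p ^ 2 := by
    rw [hw, orderOf_pow_of_dvd (pow_pos hp.pos _).ne' (by rw [ht]; exact pow_dvd_pow p (by omega)),
      ht, Nat.pow_div (by omega) hp.pos]
    congr 1; omega
  obtain ⟨g, hg⟩ := hconj (Subgroup.zpowers w) E' inferInstance hE'comm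
    (by rw [Nat.card_zpowers, hwo]) hE'card
  have h1 : g * w * g⁻¹ ∈ E' := by
    rw [hg]
    exact ⟨w, Subgroup.mem_zpowers w, rfl⟩
  have h2 := hE'exp _ h1
  rw [conj_pow] at h2
  have h3 : w ^ p = 1 := by
    have : w ^ p = g⁻¹ * (g * w ^ p * g⁻¹) * g := by group
    rw [this, h2]; group
  have h4 := Nat.le_of_dvd hp.pos (orderOf_dvd_of_pow_eq_one h3)
  rw [hwo] at h4
  have : p < p ^ 2 := by nlinarith [hp.one_lt]
  omega

/-- If all abelian subgroups of order `p²` are conjugate, a Sylow `p`-subgroup has a unique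
subgroup of order `p` or exponent `p`. -/
theorem unique_or_exponent {G : Type*} [Group G] [Finite G] {p : ℕ} [Fact p.Prime]
    (hconj : ∀ A B : Subgroup G, IsMulCommutative A → IsMulCommutative B → Nat.card A = p ^ 2 →
      Nat.card B = p ^ 2 → ∃ g : G, B = A.map (MulAut.conj g).toMonoidHom) (P : Sylow p G) :
    (∀ H K : Subgroup (P : Subgroup G), Nat.card H = p → Nat.card K = p → H = K) ∨
      ∀ x ∈ (P : Subgroup G), x ^ p = 1 := by
  have hp : p.Prime := Fact.out
  by_cases huniq : ∀ H K : Subgroup (P : Subgroup G), Nat.card H = p → Nat.card K = p → H = K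
  · exact Or.inl huniq
  right
  push Not at huniq
  obtain ⟨H, K, hH, hK, hne⟩ := huniq
  obtain ⟨E, hEcard, hEcomm, hEexp⟩ := exists_rank_two_of_two_subgroups P.2 H K hH hK hne
  let e1 := E.equivMapOfInjective (P : Subgroup G).subtype (P : Subgroup G).subtype_injective
  set E' := E.map (P : Subgroup G).subtype with hE'
  have hE'card : Nat.card E' = p ^ 2 := by rw [← Nat.card_congr e1.toEquiv, hEcard]
  have hE'exp : ∀ a ∈ E', a ^ p = 1 := by
    rintro _ ⟨a, ha, rfl⟩
    have := hEexp a ha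
    rw [← map_pow, this, map_one]
  intro x hx
  obtain ⟨t, ht⟩ := (IsPGroup.iff_orderOf.mp P.2) ⟨x, hx⟩
  rw [Subgroup.orderOf_mk] at ht
  exact pow_prime_eq_one_of_rank_two hconj E' hE'card hE'exp x t ht

end Cfsg.Agent.Lib.Helper70
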