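import Mathlib
import Cfsg.Agent.Lib.Helper61.ZassDefs
import Cfsg.Agent.Lib.Helper75.FrobTheory
import Cfsg.Agent.Lib.Helper75.FrobConstruct
import Cfsg.Agent.S0042

set_option autoImplicit false

namespace Cfsg.Agent.Lib.Helper70.Zass

open Cfsg.Agent.Lib.Helper61.Zass
open scoped TensorProduct

/-- base change of a free action on a finite `ZMod q`-module to the algebraic closure -/
theorem hasFreeRep_of_zmod {H : Type*} [Group H] {M : Type} [AddCommGroup M] [Finite M]
    [Nontrivial M] (q : ℕ) [Fact q.Prime] [Module (ZMod q) M]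
    (ρ0 : H →* Module.End (ZMod q) M)
    (hfree : ∀ g : H, g ≠ 1 → ∀ v : M, ρ0 g v = v → v = 0) : HasFreeRep H := by
  let F := ZMod q
  let Kb := AlgebraicClosure F
  let V := Kb ⊗[F] M
  let bc : Module.End F M →ₐ[F] Module.End Kb V := Module.End.baseChangeHom F Kb M
  have hfin : Module.Finite F M := Module.Finite.of_finite
  have hnt : Nontrivial V := by
    apply Module.nontrivial_of_finrank_pos (R := Kb)
    rw [Module.finrank_baseChange]
    exact Module.finrank_pos
  refine ⟨Kb, inferInstance, inferInstance, V, inferInstance, inferInstance, inferInstance, hnt,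
    (bc : Module.End F M →* Module.End Kb V).comp ρ0, ?_⟩
  intro g hg v hv
  have hinj : Function.Injective ⇑(ρ0 g - 1 : Module.End F M) := by
    rw [injective_iff_map_eq_zero]
    intro w hw
    apply hfree g hg w
    rw [LinearMap.sub_apply, Module.End.one_apply] at hw
    exact sub_eq_zero.mp hw
  have hbij : Function.Bijective ⇑(ρ0 g - 1 : Module.End F M) := ⟨hinj, Finite.surjective_of_injective hinj⟩
  have hu : IsUnit (ρ0 g - 1) := (Module.End.isUnit_iff _).mpr hbij
  have hu2 : IsUnit (bc (ρ0 g - 1)) := hu.map bc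
  have hb2 := (Module.End.isUnit_iff _).mp hu2
  apply hb2.1
  rw [map_zero, map_sub, map_one, LinearMap.sub_apply, Module.End.one_apply]
  exact sub_eq_zero.mpr hv

/-- a free action by automorphisms on a finite `ZMod q`-module (written multiplicatively) -/
theorem hasFreeRep_of_mulAut_aux {H : Type*} [Group H] {A : Type} [CommGroup A] [Finite A]
    [Nontrivial A] (q : ℕ) [Fact q.Prime] [Module (ZMod q) (Additive A)] (φ : H →* MulAut A)
    (hfpf : ∀ g : H, g ≠ 1 → ∀ a : A, φ g a = a → a = 1) : HasFreeRep H := by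
  let f : H → Module.End (ZMod q) (Additive A) := fun h => AddMonoidHom.toZModLinearMap q
        (MonoidHom.toAdditive (φ h).toMonoidHom)
  have f_one : f 1 = 1 := by
    ext x
    simp [f]
  have f_mul : ∀ a b, f (a * b) = f a * f b := by
    intro a b
    ext x
    simp [f]
  let ρ0 : H →* Module.End (ZMod q) (Additive A) :=
    { toFun := f
      map_one' := f_one
      map_mul' := f_mul }
  have hnt : Nontrivial (Additive A) := Additive.toMul.nontrivial
  have hfin : Finite (Additive A) := Finite.of_equiv A Additive.ofMul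
  apply hasFreeRep_of_zmod q ρ0
  intro g hg v hv
  apply Additive.toMul.injective
  exact hfpf g hg (Additive.toMul v) (congrArg Additive.toMul hv)

/-- a free action on a finite elementary abelian group -/
theorem hasFreeRep_of_mulAut {H : Type*} [Group H] {A : Type} [CommGroup A] [Finite A]
    [Nontrivial A] (q : ℕ) [Fact q.Prime] (hexp : ∀ a : A, a ^ q = 1) (φ : H →* MulAut A)
    (hfpf : ∀ g : H, g ≠ 1 → ∀ a : A, φ g a = a → a = 1) : HasFreeRep H := by
  let inst : Module (ZMod q) (Additive A) := AddCommGroup.zmodModule (n := q) (by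
    intro x
    apply Additive.toMul.injective
    rw [toMul_nsmul, toMul_zero]
    exact hexp _)
  exact hasFreeRep_of_mulAut_aux q φ hfpf

/-- an elementary abelian normal subgroup on which `H` acts freely by conjugation -/
theorem hasFreeRep_of_normal {L : Type} [Group L] [Finite L] (H V0 : Subgroup L) [V0.Normal]
    (q : ℕ) [Fact q.Prime] (hcomm : ∀ a ∈ V0, ∀ b ∈ V0, a * b = b * a)
    (hexp : ∀ a ∈ V0, a ^ q = 1) (hne : V0 ≠ ⊥)
    (hfpf : ∀ h ∈ H, h ≠ 1 → ∀ k ∈ V0, h * k = k * h → k = 1) : HasFreeRep H := by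
  let inst : CommGroup V0 :=
    { (inferInstance : Group V0) with
      mul_comm := fun a b => Subtype.ext (hcomm a a.2 b b.2) }
  have : Nontrivial V0 := (Subgroup.nontrivial_iff_ne_bot V0).mpr hne
  refine hasFreeRep_of_mulAut (A := V0) q (fun a => Subtype.ext (hexp a a.2))
    ((MulAut.conjNormal : L →* MulAut V0).comp H.subtype) ?_
  intro g hg v hv
  have h2 : (g : L) * (v : L) * (g : L)⁻¹ = (v : L) := by
    have := congrArg Subtype.val hv
    simpa [MulAut.conjNormal_apply] using this
  apply Subtype.ext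
  apply hfpf g g.2 (fun h => hg (Subtype.ext h)) _ v.2
  exact mul_inv_eq_iff_eq_mul.mp h2

theorem hasFreeRep_of_frobenius {G : Type*} [Group G] [Finite G]
    (hFC : ∃ (L : Type) (_ : Group L) (_ : Finite L) (H : Subgroup L),
      Cfsg.IsFrobeniusComplement H ∧ Nonempty (G ≃* H)) : HasFreeRep G := by
  obtain ⟨L, _, _, H, hH, ⟨e⟩⟩ := hFC
  obtain ⟨N, hN, hNn, hc, hNbot, hcard, hfpf⟩ := Cfsg.Agent.Lib.Helper75.frobenius_kernel_data H hH
  obtain ⟨N', hN', _, hnil⟩ := Cfsg.Agent.S0042.result H hH
  have hNN : N' = N := SetLike.ext' (hN'.trans hN.symm)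
  subst hNN
  have hnt : Nontrivial N' := (Subgroup.nontrivial_iff_ne_bot N').mpr hNbot
  have hZ : Subgroup.center N' ≠ ⊥ := Group.IsNilpotent.center_ne_bot N'
  have hZc : Nat.card (Subgroup.center N') ≠ 1 := by
    intro h; exact hZ (Subgroup.card_eq_one.mp h)
  set q := (Nat.card (Subgroup.center N')).minFac with hq
  have hqp : Fact q.Prime := ⟨Nat.minFac_prime hZc⟩
  obtain ⟨z, hz⟩ := exists_prime_orderOf_dvd_card' (G := Subgroup.center N') q
    (Nat.minFac_dvd _)
  let V0 : Subgroup L :=
    { carrier := {k | k ∈ N' ∧ (∀ n ∈ N', n * k = k * n) ∧ k ^ q = 1}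
      one_mem' := ⟨N'.one_mem, fun n _ => by simp, one_pow _⟩
      mul_mem' := by
        rintro a b ⟨ha, ha2, ha3⟩ ⟨hb, hb2, hb3⟩
        refine ⟨N'.mul_mem ha hb, fun n hn => ?_, ?_⟩
        · rw [← mul_assoc, ha2 n hn, mul_assoc, hb2 n hn, mul_assoc]
        · have : Commute a b := hb2 a ha
          rw [this.mul_pow, ha3, hb3, one_mul]
      inv_mem' := by
        rintro a ⟨ha, ha2, ha3⟩
        refine ⟨N'.inv_mem ha, fun n hn => ?_, by rw [inv_pow, ha3, inv_one]⟩
        have := ha2 n hn
        calc n * a⁻¹ = a⁻¹ * (a * n) * a⁻¹ := by group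
          _ = a⁻¹ * (n * a) * a⁻¹ := by rw [this]
          _ = a⁻¹ * n := by group }
  have hV0n : V0.Normal := by
    constructor
    rintro k ⟨hk, hk2, hk3⟩ g
    refine ⟨hNn.conj_mem k hk g, fun n hn => ?_, ?_⟩
    · have h1 : g⁻¹ * n * g ∈ N' := by
        have := hNn.conj_mem n hn g⁻¹
        rwa [inv_inv] at this
      have h2 := hk2 _ h1
      calc n * (g * k * g⁻¹) = g * ((g⁻¹ * n * g) * k) * g⁻¹ := by group
        _ = g * (k * (g⁻¹ * n * g)) * g⁻¹ := by rw [h2]
        _ = g * k * g⁻¹ * n := by group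
    · rw [conj_pow, hk3]; simp
  have hV0ne : V0 ≠ ⊥ := by
    intro h
    have hzm : ((z : N') : L) ∈ V0 := by
      refine ⟨(z : N').2, fun n hn => ?_, ?_⟩
      · have := Subgroup.mem_center_iff.mp z.2 ⟨n, hn⟩
        exact congrArg Subtype.val this
      · have : z ^ q = 1 := by rw [← hz]; exact pow_orderOf_eq_one z
        have := congrArg (fun w : Subgroup.center N' => ((w : N') : L)) this
        simpa using this
    rw [h, Subgroup.mem_bot] at hzm
    have : z = 1 := Subtype.ext (Subtype.ext hzm)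
    rw [this, orderOf_one] at hz
    exact hqp.out.one_lt.ne hz
  have hfree : HasFreeRep H := by
    refine hasFreeRep_of_normal H V0 q ?_ ?_ hV0ne ?_
    · rintro a ⟨ha, _, _⟩ b ⟨_, hb2, _⟩
      exact hb2 a ha
    · rintro a ⟨_, _, ha3⟩
      exact ha3
    · rintro h hh h1 k ⟨hk, _, _⟩ hcomm
      exact hfpf h hh h1 k hk hcomm
  exact hfree.of_injective e.toMonoidHom e.injective

theorem hasFreeRep_of_fpf {K : Type*} [Group K] [Finite K] (G : Subgroup (MulAut K))
    (hfpf : ∀ φ ∈ G, φ ≠ 1 → ∀ k, φ k = k → k = 1) (hne : G ≠ ⊥) : HasFreeRep G := by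
  have hntG : Nontrivial G := (Subgroup.nontrivial_iff_ne_bot G).mpr hne
  have hntK : Nontrivial K := by
    by_contra h
    rw [not_nontrivial_iff_subsingleton] at h
    apply hne
    rw [Subgroup.eq_bot_iff_forall]
    intro φ _
    ext k
    exact Subsingleton.elim _ _
  have hfinA : Finite (MulAut K) := Finite.of_injective (fun φ : MulAut K => (φ : K → K))
    (fun a b h => MulEquiv.ext (congrFun h))
  obtain ⟨L, i1, i2, C, hC, hiso, _⟩ := Cfsg.Agent.Lib.Helper75.exists_frobenius_of_fpf
    (H := G) (V := K) G.subtype (by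
      intro h hh v hv
      exact hfpf h h.2 (fun h1 => hh (Subtype.ext h1)) v hv)
  exact hasFreeRep_of_frobenius ⟨L, i1, i2, C, hC, hiso⟩

end Cfsg.Agent.Lib.Helper70.Zass
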